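import Cfsg.Agent.S0215
import Cfsg.Agent.Lib.Coprime.Action
import Cfsg.Agent.Lib.LocalEven2.CD

/-!
An involution acting on a module of exponent three which is the square of an operator fixing its fixed points
is central modulo a `3`-group.
-/

set_option autoImplicit false

namespace Cfsg.Agent.Lib.BlockExc

open scoped commutatorElement Pointwise

section Ring

variable {A : Type*} [AddCommGroup A]

theorem pow_three_sub_one {R : Type*} [Ring R] (h3 : (3 : R) = 0) (x : R) :
    ∀ k : ℕ, (x - 1) ^ 3 ^ k = x ^ 3 ^ k - 1 := by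
  intro k
  induction k with
  | zero => simp
  | succ k ih =>
    rw [pow_succ, pow_mul, ih, pow_mul]
    set y := x ^ 3 ^ k
    calc (y - 1) ^ 3 = y ^ 3 - 1 - 3 * (y * y - y) := by noncomm_ring
      _ = _ := by rw [h3, zero_mul, sub_zero]

theorem sq_diff {R : Type*} [Ring R] {u u' : R} (h : u * u' = 1) (h' : u' * u = 1) :
    (u - u') * (u - u') = (u + u') * (u + u') - (1 + 1 + 1 + 1) := by
  calc (u - u') * (u - u') = (u + u') * (u + u') - (u * u' + u * u') - (u' * u + u' * u) := by noncomm_ring
    _ = _ := by rw [h, h']; noncomm_ring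

theorem cube_diff {R : Type*} [Ring R] (h3 : (3 : R) = 0) {u u' : R} (h : u * u' = 1) (h' : u' * u = 1) :
    (u - u') * (u - u') * (u - u') = u * u * u - u' * u' * u' := by
  calc (u - u') * (u - u') * (u - u') = (u * u + u' * u' - u * u' - u' * u) * (u - u') := by noncomm_ring
    _ = (u * u + u' * u' - (1 + 1)) * (u - u') := by rw [h, h']; noncomm_ring
    _ = u * u * u - u' * u' * u' - u * (u * u') + u' * (u' * u) - (u + u) + (u' + u') := by noncomm_ring
    _ = u * u * u - u' * u' * u' - 3 * u + 3 * u' := by rw [h, h']; noncomm_ring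
    _ = _ := by rw [h3, zero_mul, zero_mul, sub_zero, add_zero]

theorem three_eq_zero (h : ∀ x : A, (3 : ℕ) • x = 0) : (3 : AddMonoid.End A) = 0 := by
  ext x
  show (3 : ℕ) • x = 0
  exact h x

theorem eq_zero_of_double (h : ∀ x : A, (3 : ℕ) • x = 0) {x : A} (hx : x + x = 0) : x = 0 := by
  calc x = (3 : ℕ) • x - (x + x) := by abel
    _ = 0 := by rw [h, hx, sub_zero]

end Ring

variable {M : Type*} [CommGroup M]

/-- An automorphism as an additive endomorphism. -/
def toEnd : MulAut M →* AddMonoid.End (Additive M) where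
  toFun g := MonoidHom.toAdditive g.toMonoidHom
  map_one' := rfl
  map_mul' _ _ := rfl

theorem toEnd_injective : Function.Injective (toEnd (M := M)) := by
  intro g h e
  ext x
  exact congrArg (fun f : AddMonoid.End (Additive M) => Additive.toMul (f (Additive.ofMul x))) e

theorem toEnd_inv_apply (g : MulAut M) (x : Additive M) : toEnd g⁻¹ (toEnd g x) = x := by
  show (toEnd g⁻¹ * toEnd g) x = x
  rw [← map_mul, inv_mul_cancel, map_one]; rfl

variable (h3 : ∀ x : Additive M, (3 : ℕ) • x = 0)
include h3

/-- The key computation: `m` and its conjugate by a square root of the inversion commute, so `m = 1`. -/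
theorem eq_one_of_inverted [Finite M] {i a m : MulAut M} (hi : i * i = 1) (ha : a * a = i)
    (hfix : ∀ x : Additive M, toEnd i x = x → toEnd a x = x)
    (hm : i * m * i⁻¹ = m⁻¹) (hc : Commute m (a * m * a⁻¹))
    (ho : (orderOf m).Coprime 6) : m = 1 := by
  set u := toEnd m with hu
  set u' := toEnd m⁻¹ with hu'
  set v := toEnd (a * m * a⁻¹) with hv
  set v' := toEnd (a * m * a⁻¹)⁻¹ with hv'
  set A := toEnd a with hA
  set I := toEnd i with hI
  have huu : u * u' = 1 := by rw [hu, hu', ← map_mul, mul_inv_cancel, map_one]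
  have hu'u : u' * u = 1 := by rw [hu, hu', ← map_mul, inv_mul_cancel, map_one]
  have hvv : v * v' = 1 := by rw [hv, hv', ← map_mul, mul_inv_cancel, map_one]
  have hv'v : v' * v = 1 := by rw [hv, hv', ← map_mul, inv_mul_cancel, map_one]
  have hI2 : I * I = 1 := by rw [hI, ← map_mul, hi, map_one]
  have hiinv : i⁻¹ = i := inv_eq_of_mul_eq_one_right hi
  have hIu : I * u = u' * I := by
    rw [hI, hu, hu', ← map_mul, ← map_mul]; congr 1; rw [← hm]; group
  have hIu' : I * u' = u * I := by
    rw [hI, hu, hu', ← map_mul, ← map_mul]; congr 1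
    have : m = i * m⁻¹ * i⁻¹ := by
      calc m = (i * m * i⁻¹)⁻¹ := by rw [hm, inv_inv]
        _ = _ := by group
    conv_rhs => rw [this]
    group
  have hAu : A * u = v * A := by
    rw [hA, hu, hv, ← map_mul, ← map_mul]; congr 1; group
  have hAu' : A * u' = v' * A := by
    rw [hA, hu', hv', ← map_mul, ← map_mul]; congr 1; group
  have hAA : A * A = I := by rw [hA, hI, ← map_mul, ha]
  have hz : ∀ g h : MulAut M, Commute g h → Commute (toEnd g) (toEnd h) := fun g h e => e.map _
  have c1 : Commute u v := hz _ _ hc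
  have c2 : Commute u' v := hz _ _ hc.inv_left
  have c3 : Commute u v' := hz _ _ hc.inv_right
  have c4 : Commute u' v' := hz _ _ hc.inv_left.inv_right
  set D := u - u' with hD
  set D' := v - v' with hD'
  set T := u + u' with hT
  set T' := v + v' with hT'
  have hDD' : Commute D D' := (c1.sub_right c3).sub_left (c2.sub_right c4)
  have hsqD : D * D = T * T - (1 + 1 + 1 + 1) := sq_diff huu hu'u
  have hsqD' : D' * D' = T' * T' - (1 + 1 + 1 + 1) := sq_diff hvv hv'v
  have hID : I * D = -(D * I) := by rw [hD, mul_sub, hIu, hIu', sub_mul, neg_sub]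
  have hIT : I * T = T * I := by rw [hT, mul_add, hIu, hIu', add_mul, add_comm]
  have hAD : A * D = D' * A := by rw [hD, hD', mul_sub, hAu, hAu', sub_mul]
  have hAT : A * T = T' * A := by rw [hT, hT', mul_add, hAu, hAu', add_mul]
  have ev : ∀ (f g : AddMonoid.End (Additive M)) (x : Additive M), (f * g) x = f (g x) := fun _ _ _ => rfl
  -- the cube of `D` kills the inverted vectors
  have hneg : ∀ y, I y = -y → D (D (D y)) = 0 := by
    intro y hy
    have hfy : ∀ z, I z = -z → I (D z) = D z := fun z hz' => by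
      rw [← ev, hID]; show -(D (I z)) = D z; rw [hz', map_neg, neg_neg]
    have r1 : ∀ z, I z = -z → D' (A z) = D z := fun z hz' => by
      rw [← ev, ← hAD, ev]; exact hfix _ (hfy z hz')
    have hAy : I (A y) = -(A y) := by
      rw [← ev, show I * A = A * I by rw [← hAA, mul_assoc], ev, hy, map_neg]
    have r2 : D (A y) = -(D' y) := by
      rw [← r1 _ hAy, ← ev A A, hAA, hy, map_neg]
    have r3 : D' (D' y) = -(D (D y)) := by
      rw [show D' y = -(D (A y)) by rw [r2, neg_neg], map_neg, ← ev D' D, ← hDD'.eq, ev, r1 y hy]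
    set f := D y
    have hf : I f = f := hfy y hy
    have hTf : I (T f) = T f := by rw [← ev, hIT, ev, hf]
    have hT1 : ∀ g, I g = g → T' g = T g := fun g hg => by
      have h1 : I (T g) = T g := by rw [← ev, hIT, ev, hg]
      rw [← hfix _ h1, ← ev A T, hAT, ev, hfix _ hg]
    have h4 : D' (D' f) = D (D f) := by
      rw [← ev, ← ev D D, hsqD, hsqD']
      show T' (T' f) - ((1 + 1 + 1 + 1 : AddMonoid.End (Additive M))) f = T (T f) - ((1 + 1 + 1 + 1 : AddMonoid.End (Additive M))) f
      rw [hT1 f hf, hT1 _ hTf]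
    have h5 : D' (D' f) = -(D (D f)) := by
      show D' (D' (D y)) = -(D (D (D y)))
      rw [← ev D' D, ← hDD'.eq, ev, ← ev D' D, ← hDD'.eq, ev, r3, map_neg]
    refine eq_zero_of_double h3 ?_
    calc D (D f) + D (D f) = D' (D' f) + -(D' (D' f)) := by rw [h5, neg_neg, ← h5, h4]
      _ = 0 := add_neg_cancel _
  -- hence all vectors
  have hD3 : ∀ x, D (D (D x)) = 0 → u x = x := by
    intro x hx
    have e : D * D * D = u * u * u - u' * u' * u' := cube_diff (three_eq_zero h3) huu hu'u
    have h1 : (u * u * u) x = (u' * u' * u') x := by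
      have : (D * D * D) x = 0 := hx
      rw [e] at this
      exact sub_eq_zero.mp this
    have h6 : (u ^ 6) x = x := by
      have : u ^ 6 = (u * u * u) * (u * u * u) := by simp [pow_succ, mul_assoc]
      rw [this, ev, h1, ← ev]
      have : u * u * u * (u' * u' * u') = 1 := by
        calc u * u * u * (u' * u' * u') = u * (u * (u * u') * u') * u' := by simp only [mul_assoc]
          _ = 1 := by rw [huu, mul_one, huu, mul_one, huu]
      rw [this]; rfl
    have hmod : ∀ k : ℕ, (u ^ (6 * k)) x = x := by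
      intro k
      induction k with
      | zero => rfl
      | succ k ih => rw [Nat.mul_succ, pow_add, ev, h6, ih]
    obtain ⟨k, -, hk⟩ := Nat.exists_mul_mod_eq_of_coprime 1 ho.symm (orderOf_pos m).ne'
    have : u ^ (6 * k) = u := by
      rw [hu, ← map_pow, ← pow_mod_orderOf, hk, pow_mod_orderOf, pow_one]
    rw [← this]; exact hmod k
  have hYfix : ∀ y, I y = -y → u y = y := fun y hy => hD3 y (hneg y hy)
  have hXfix : ∀ x, I x = x → u x = x := by
    intro x hx
    apply hD3
    have hd : I (D x) = -(D x) := by rw [← ev, hID]; show -(D (I x)) = _; rw [hx]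
    have h1 : u (D x) = D x := hYfix _ hd
    have h2 : u' (D x) = D x := by
      conv_lhs => rw [← h1]
      rw [← ev, hu'u]; rfl
    have : D (D x) = 0 := by show u (D x) - u' (D x) = 0; rw [h1, h2, sub_self]
    rw [this, map_zero]
  apply toEnd_injective
  rw [map_one, ← hu]
  ext x
  show u x = x
  have hII : I (I x) = x := by rw [← ev, hI2]; rfl
  have hp : I (x + I x) = x + I x := by rw [map_add, hII, add_comm]
  have hn : I (x - I x) = -(x - I x) := by rw [map_sub, hII, neg_sub]
  have h2 : u (x + x) = x + x := by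
    rw [show x + x = (x + I x) + (x - I x) by abel, map_add, hXfix _ hp, hYfix _ hn]
  have : u x - x = 0 := eq_zero_of_double h3 (by rw [← sub_eq_zero.mpr h2, map_add]; abel)
  exact sub_eq_zero.mp this

omit h3 in
theorem commutator_inverted {G : Type*} [Group G] {i c : G} (hi : i * i = 1) :
    i * ⁅c, i⁆ * i⁻¹ = ⁅c, i⁆⁻¹ := by
  have : i⁻¹ = i := inv_eq_of_mul_eq_one_right hi
  rw [commutatorElement_def, mul_inv_rev, mul_inv_rev, mul_inv_rev, inv_inv, inv_inv]
  simp only [this, mul_assoc, hi, mul_one]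

theorem commutator_isPGroup [Finite M] (C : Subgroup (MulAut M)) (i a : MulAut M) (hi2 : orderOf i = 2)
    (ha : a * a = i) (hiC : i ∈ Subgroup.normalizer (C : Set (MulAut M)))
    (haC : a ∈ Subgroup.normalizer (C : Set (MulAut M)))
    (hfix : ∀ x : Additive M, toEnd i x = x → toEnd a x = x)
    (hY : ∀ c ∈ ⁅C, Subgroup.zpowers i⁆, Commute i c → ∀ y : Additive M, toEnd i y = -y → toEnd c y = y) :
    IsPGroup 3 ↥⁅C, Subgroup.zpowers i⁆ := by
  have hi : i * i = 1 := by rw [← pow_two, ← hi2, pow_orderOf_eq_one]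
  have hiinv : i⁻¹ = i := inv_eq_of_mul_eq_one_right hi
  have hai : Commute a i := by rw [← ha]; exact (Commute.refl a).mul_right (Commute.refl a)
  set N := ⁅C, Subgroup.zpowers i⁆ with hN
  have hiz : i ∈ Subgroup.zpowers i := Subgroup.mem_zpowers i
  have hNC : N ≤ C := Coprime.commutator_le_of_le_normalizer (Subgroup.zpowers_le.mpr hiC)
  have ev : ∀ (f g : AddMonoid.End (Additive M)) (x : Additive M), (f * g) x = f (g x) := fun _ _ _ => rfl
  have hI2 : ∀ x, toEnd i (toEnd i x) = x := fun x => by rw [← ev, ← map_mul, hi, map_one]; rfl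
  -- `i` is isolated
  set H := C ⊔ Subgroup.zpowers i
  set i' : ↥H := ⟨i, Subgroup.mem_sup_right hiz⟩
  have hi' : orderOf i' = 2 := by rw [← Subgroup.orderOf_coe]; exact hi2
  obtain ⟨P, hP⟩ := (IsPGroup.of_card (n := 1) (by rw [Nat.card_zpowers, hi', pow_one]) :
    IsPGroup 2 (Subgroup.zpowers i')).exists_le_sylow
  have hiso : ∀ g : ↥H, g * i' * g⁻¹ ∈ P → g * i' * g⁻¹ = i' := by
    rintro ⟨g, hg⟩ hgP
    obtain ⟨c, hc, d, hd, rfl⟩ := Coprime.exists_mul_of_mem_sup (Subgroup.zpowers_le.mpr hiC) hg
    obtain ⟨k, rfl⟩ := Subgroup.mem_zpowers_iff.mp hd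
    set j := c * i * c⁻¹ with hj
    have hjg : c * i ^ k * i * (c * i ^ k)⁻¹ = j := by rw [hj]; group
    apply Subtype.ext
    show c * i ^ k * i * (c * i ^ k)⁻¹ = i
    rw [hjg]
    have hjj : j * j = 1 := by
      rw [hj, show c * i * c⁻¹ * (c * i * c⁻¹) = c * (i * i) * c⁻¹ by group, hi, mul_one, mul_inv_cancel]
    have hjinv : j⁻¹ = j := inv_eq_of_mul_eq_one_right hjj
    set w := ⁅c, i⁆ with hwdef
    have hw : w = j * i := by rw [hwdef, hj, commutatorElement_def, hiinv]
    obtain ⟨n, hn⟩ := P.2 ⟨⟨c * i ^ k, hg⟩ * i' * (⟨c * i ^ k, hg⟩ : ↥H)⁻¹ * i'⁻¹,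
      mul_mem hgP (inv_mem (hP (Subgroup.mem_zpowers i')))⟩
    have hwn : w ^ 2 ^ n = 1 := by
      have h : (c * i ^ k * i * (c * i ^ k)⁻¹ * i⁻¹) ^ 2 ^ n = 1 := by
        have := congrArg (fun x : ↥(P : Subgroup ↥H) => ((x : ↥H) : MulAut M)) hn
        simpa [i'] using this
      rwa [hjg, hiinv, ← hw] at h
    have hwN : w ∈ N := Subgroup.commutator_mem_commutator hc hiz
    -- an involution of `N` commuting with `i`
    by_contra hne
    have hw1 : w ≠ 1 := fun e => hne (by
      rw [hw, mul_eq_one_iff_eq_inv] at e; rw [e, hiinv])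
    obtain ⟨l, hl⟩ : ∃ l, orderOf w = 2 ^ (l + 1) := by
      obtain ⟨l, -, hl⟩ := (Nat.dvd_prime_pow Nat.prime_two).mp (orderOf_dvd_of_pow_eq_one hwn)
      rcases l with _ | l
      · exact absurd (orderOf_eq_one_iff.mp (by simpa using hl)) hw1
      · exact ⟨l, hl⟩
    set z := w ^ 2 ^ l with hz
    have hzz : z * z = 1 := by
      rw [hz, ← pow_add, ← two_mul, ← pow_succ', ← hl, pow_orderOf_eq_one]
    have hz1 : z ≠ 1 := fun e => by
      have := Nat.le_of_dvd (by positivity) (orderOf_dvd_of_pow_eq_one e)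
      rw [hl, pow_succ] at this
      have := Nat.one_le_two_pow (n := l)
      omega
    have hzi : Commute i z := by
      have h1 : i * w * i⁻¹ = w⁻¹ := commutator_inverted hi
      have h2 : i * z * i⁻¹ = z⁻¹ := by rw [hz, ← conj_pow, h1, inv_pow]
      rw [inv_eq_of_mul_eq_one_right hzz] at h2
      exact mul_inv_eq_iff_eq_mul.mp h2
    -- it is trivial
    have hzj : Commute j z := by
      have h1 : j * w * j⁻¹ = w⁻¹ := by
        calc j * w * j⁻¹ = (j * j) * (i * j⁻¹) := by rw [hw]; group
          _ = i⁻¹ * j⁻¹ := by rw [hjj, one_mul, hiinv]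
          _ = (j * i)⁻¹ := (mul_inv_rev j i).symm
          _ = w⁻¹ := by rw [hw]
      have h2 : j * z * j⁻¹ = z⁻¹ := by rw [hz, ← conj_pow, h1, inv_pow]
      rw [inv_eq_of_mul_eq_one_right hzz] at h2
      exact mul_inv_eq_iff_eq_mul.mp h2
    have hzN : z ∈ N := pow_mem hwN _
    have hzY : ∀ y, toEnd i y = -y → toEnd z y = y := hY z hzN hzi
    have hzY' : ∀ y, toEnd j y = -y → toEnd z y = y := by
      intro y hy
      have hc' : Commute i (c⁻¹ * z * c) := by
        show i * (c⁻¹ * z * c) = c⁻¹ * z * c * i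
        have := congrArg (fun x => c⁻¹ * x * c) hzj.eq
        simpa [hj, mul_assoc] using this
      have hNn : C ≤ Subgroup.normalizer (N : Set (MulAut M)) := Subgroup.normalizer_commutator_ge_left _ _
      have hmem : c⁻¹ * z * c ∈ N := (Subgroup.mem_normalizer_iff''.mp (hNn hc) z).mp hzN
      have hy' : toEnd i (toEnd c⁻¹ y) = -(toEnd c⁻¹ y) := by
        rw [← ev, ← map_mul, show i * c⁻¹ = c⁻¹ * j by rw [hj]; group, map_mul, ev, hy, map_neg]
      have := congrArg (toEnd c) (hY _ hmem hc' _ hy')
      rw [← ev, ← map_mul, show c * (c⁻¹ * z * c) = z * c by group, map_mul, ev] at this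
      have hcc : toEnd c (toEnd c⁻¹ y) = y := by rw [← ev, ← map_mul, mul_inv_cancel, map_one]; rfl
      rwa [hcc] at this
    apply hz1
    -- `z` fixes the module modulo its fixed points, hence everything
    apply toEnd_injective
    rw [map_one]
    ext x
    show toEnd z x = x
    set d := toEnd z x - x with hd'
    have hzd : toEnd z d = -d := by
      rw [hd', map_sub, ← ev, ← map_mul, hzz, map_one, neg_sub]; rfl
    have hFix : ∀ g : MulAut M, g * g = 1 → (∀ y, toEnd g y = -y → toEnd z y = y) → Commute g z →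
        toEnd g d = d := by
      intro g hg hgY hgz
      have h1 : toEnd g (toEnd g d - d) = -(toEnd g d - d) := by
        rw [map_sub, ← ev, ← map_mul, hg, map_one, neg_sub]; rfl
      have h2 := hgY _ h1
      rw [map_sub, ← ev, ← map_mul, ← hgz.eq, map_mul, ev, hzd, map_neg] at h2
      have : toEnd g d - d = 0 := eq_zero_of_double h3 (by
        nth_rewrite 1 [← h2]; abel)
      exact sub_eq_zero.mp this
    have h1 := hFix i hi hzY hzi
    have h2 := hFix j hjj hzY' hzj
    have hwd : toEnd w d = d := by rw [hw, map_mul, ev, h1, h2]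
    have : ∀ n : ℕ, toEnd (w ^ n) d = d := fun n => by
      induction n with
      | zero => rw [pow_zero, map_one]; rfl
      | succ n ih => rw [pow_succ, map_mul, ev, hwd, ih]
    have h0 : d = 0 := eq_zero_of_double h3 (by
      have := this (2 ^ l)
      rw [← hz, hzd] at this
      nth_rewrite 1 [← this]; exact neg_add_cancel d)
    exact sub_eq_zero.mp h0
  obtain ⟨K, -, hKodd, hK⟩ := Cfsg.Agent.S0215.result P i' hi' (hP (Subgroup.mem_zpowers i')) hiso
  have hNodd : Odd (Nat.card N) := by
    have hle : N ≤ K.map H.subtype := by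
      rw [hN, Subgroup.commutator_le]
      intro c hc d hd
      obtain ⟨k, rfl⟩ := Subgroup.mem_zpowers_iff.mp hd
      rcases Int.even_or_odd k with hk | hk
      · obtain ⟨r, rfl⟩ := hk
        rw [← two_mul, zpow_mul, zpow_two, hi, one_zpow, commutatorElement_one_right]
        exact one_mem _
      · obtain ⟨r, rfl⟩ := hk
        rw [zpow_add, zpow_mul, zpow_two, hi, one_zpow, one_mul, zpow_one]
        refine ⟨_, K.inv_mem (hK ⟨c, Subgroup.mem_sup_left hc⟩), ?_⟩
        show (i * c * i⁻¹ * c⁻¹)⁻¹ = ⁅c, i⁆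
        rw [commutatorElement_def]; group
    have := Subgroup.card_dvd_of_le hle
    rw [Subgroup.card_map_of_injective H.subtype_injective] at this
    exact hKodd.of_dvd_nat this
  have haN : a ∈ Subgroup.normalizer (N : Set (MulAut M)) := by
    rw [Subgroup.mem_normalizer_iff_map_conj_eq, hN, Subgroup.map_commutator,
      Subgroup.mem_normalizer_iff_map_conj_eq.mp haC, MonoidHom.map_zpowers]
    congr 2
    show a * i * a⁻¹ = i
    rw [hai.eq, mul_assoc, mul_inv_cancel, mul_one]
  have hiN : i ∈ Subgroup.normalizer (N : Set (MulAut M)) := by rw [← ha]; exact mul_mem haN haN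
  have hodd : ∀ x ∈ N, Odd (orderOf x) := fun x hx =>
    hNodd.of_dvd_nat (Subgroup.orderOf_coe (⟨x, hx⟩ : N) ▸ orderOf_dvd_natCard _)
  -- every invariant subgroup of order prime to `3` centralizes `i`
  have key : ∀ (n : ℕ) (U : Subgroup (MulAut M)), Nat.card U = n → U ≤ N →
      a ∈ Subgroup.normalizer (U : Set (MulAut M)) → ∀ (r : ℕ) [Fact r.Prime], r ≠ 3 → IsPGroup r U →
      ∀ u ∈ U, Commute i u := by
    intro n
    induction n using Nat.strong_induction_on with
    | _ n ih =>
      intro U hn hUN haU r _ hr hUr u hu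
      have hlt : ∀ V : Subgroup (MulAut M), V ≤ U → V ≠ U → a ∈ Subgroup.normalizer (V : Set (MulAut M)) →
          ∀ v ∈ V, Commute i v := fun V hV hne haV v hv => ih (Nat.card V) (by
            rw [← hn]
            exact lt_of_le_of_ne (Subgroup.card_le_of_le hV)
              fun e => hne (Subgroup.eq_of_le_of_card_ge hV e.ge)) V rfl (hV.trans hUN) haV r hr
            (hUr.to_le hV) v hv
      have hiU : Subgroup.zpowers i ≤ Subgroup.normalizer (U : Set (MulAut M)) :=
        Subgroup.zpowers_le.mpr (by rw [← ha]; exact mul_mem haU haU)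
      have hcop : (Nat.card (Subgroup.zpowers i)).Coprime (Nat.card U) := by
        rw [Nat.card_zpowers, hi2]
        exact Nat.coprime_two_left.mpr (hNodd.of_dvd_nat (Subgroup.card_dvd_of_le hUN))
      set U₁ := ⁅U, Subgroup.zpowers i⁆ with hU₁
      have hU₁U : U₁ ≤ U := Coprime.commutator_le_of_le_normalizer hiU
      have haU₁ : a ∈ Subgroup.normalizer (U₁ : Set (MulAut M)) := by
        rw [Subgroup.mem_normalizer_iff_map_conj_eq, hU₁, Subgroup.map_commutator,
          Subgroup.mem_normalizer_iff_map_conj_eq.mp haU, MonoidHom.map_zpowers]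
        congr 2
        show a * i * a⁻¹ = i
        rw [hai.eq, mul_assoc, mul_inv_cancel, mul_one]
      have hcc : ⁅U₁, Subgroup.zpowers i⁆ = U₁ := Coprime.commutator_commutator_eq hiU hcop
        (Or.inl (Coprime.isSolvable_zpowers i))
      by_cases h1 : U₁ = U
      swap
      · have h2 := hlt U₁ hU₁U h1 haU₁
        have h3' : U₁ = ⊥ := by
          rw [← hcc, Subgroup.commutator_eq_bot_iff_le_centralizer]
          intro v hv
          rw [Subgroup.mem_centralizer_iff]
          intro w hw
          obtain ⟨k, rfl⟩ := Subgroup.mem_zpowers_iff.mp hw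
          exact ((h2 v hv).zpow_left k).eq
        have h4 : ⁅u, i⁆ = 1 := Subgroup.mem_bot.mp (h3' ▸ Subgroup.commutator_mem_commutator hu hiz)
        exact (commutatorElement_eq_one_iff_mul_comm.mp h4).symm
      -- `U = [U, i]`: then `U` is abelian
      set U' := ⁅U, U⁆ with hU'
      have hU'U : U' ≤ U := Subgroup.commutator_le_self U
      have hU'c : ∀ v ∈ U', Commute i v := by
        by_cases hne : U' = U
        · intro v hv
          haveI : Group.IsNilpotent U := hUr.isNilpotent
          haveI : Nontrivial U ∨ Subsingleton U := (subsingleton_or_nontrivial U).symm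
          rcases subsingleton_or_nontrivial U with hs | hs
          · have : v = 1 := congrArg Subtype.val (Subsingleton.elim (⟨v, hne ▸ hv⟩ : U) 1)
            rw [this]; exact Commute.one_right i
          · exfalso
            have h' : commutator ↥U = ⊤ := by
              apply Subgroup.map_injective U.subtype_injective
              rw [Subgroup.map_subtype_commutator, ← MonoidHom.range_eq_map, Subgroup.range_subtype]
              exact hne
            exact (Group.IsSolvable.commutator_lt_top_of_nontrivial (G := ↥U)).ne h'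
        · refine hlt U' hU'U hne ?_
          rw [Subgroup.mem_normalizer_iff_map_conj_eq, hU', Subgroup.map_commutator,
            Subgroup.mem_normalizer_iff_map_conj_eq.mp haU]
      set F : Set (Additive M) := {x | ∀ v ∈ U', toEnd v x = x}
      have hYF : ∀ y, toEnd i y = -y → y ∈ F := fun y hy v hv =>
        hY v (hUN (hU'U hv)) (hU'c v hv) y hy
      have hUF : ∀ g ∈ U, ∀ x ∈ F, toEnd g x ∈ F := by
        intro g hg x hx v hv
        have hn' : g⁻¹ * v * g ∈ U' :=
          (Subgroup.mem_normalizer_iff''.mp ((Subgroup.normalizer_commutator_ge_left U U) hg) v).mp hv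
        have := congrArg (toEnd g) (hx _ hn')
        rw [← ev, ← map_mul, show g * (g⁻¹ * v * g) = v * g by group, map_mul, ev] at this
        exact this
      let K' : Subgroup (MulAut M) :=
        { carrier := {g | g ∈ U ∧ ∀ x, toEnd g x - x ∈ F}
          one_mem' := ⟨one_mem _, fun x => by rw [map_one]; intro v _; simp [AddMonoid.End.coe_one]⟩
          mul_mem' := fun {g h} hg hh => ⟨mul_mem hg.1 hh.1, fun x v hv => by
            rw [map_mul, ev, show toEnd g (toEnd h x) - x =
              (toEnd g (toEnd h x) - toEnd h x) + (toEnd h x - x) by abel, map_add,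
              hg.2 _ v hv, hh.2 _ v hv]⟩
          inv_mem' := fun {g} hg => ⟨inv_mem hg.1, fun x v hv => by
            have h' := hg.2 (toEnd g⁻¹ x) v hv
            have e : toEnd g (toEnd g⁻¹ x) = x := by
              rw [← ev, ← map_mul, mul_inv_cancel, map_one]; rfl
            rw [e] at h'
            rw [← neg_sub, map_neg, h']⟩ }
      have hUK : U ≤ K' := by
        rw [← h1]
        rw [hU₁, Subgroup.commutator_le]
        intro g hg d hd
        have hgd : ⁅g, d⁆ ∈ U := hU₁U (Subgroup.commutator_mem_commutator hg hd)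
        refine ⟨hgd, ?_⟩
        obtain ⟨k, rfl⟩ := Subgroup.mem_zpowers_iff.mp hd
        rcases Int.even_or_odd k with ⟨s, rfl⟩ | ⟨s, rfl⟩
        · rw [← two_mul, zpow_mul, zpow_two, hi, one_zpow, commutatorElement_one_right]
          intro x v _; rw [map_one]; simp [AddMonoid.End.coe_one]
        rw [zpow_add, zpow_mul, zpow_two, hi, one_zpow, one_mul, zpow_one]
        intro x
        have hIF : ∀ x, toEnd i x - x ∈ F := fun x => hYF _ (by rw [map_sub, hI2, neg_sub])
        rw [commutatorElement_def, hiinv, map_mul, map_mul, map_mul, ev, ev, ev]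
        set p1 := toEnd g⁻¹ (toEnd i x)
        have e : toEnd g p1 = toEnd i x := by rw [← ev, ← map_mul, mul_inv_cancel, map_one]; rfl
        intro v hv
        rw [show toEnd g (toEnd i p1) - x = (toEnd g (toEnd i p1 - p1)) + (toEnd i x - x) by
          rw [map_sub, e]; abel, map_add, hUF g hg _ (hIF p1) v hv, hIF x v hv]
      have hU'1 : ∀ v ∈ U', v = 1 := by
        intro v hv
        apply toEnd_injective
        rw [map_one]
        ext x
        show toEnd v x = x
        set d := toEnd v x - x
        have hd' : toEnd v d = d := (hUK (hU'U hv)).2 x v hv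
        have hk : ∀ k : ℕ, toEnd (v ^ k) x = x + k • d := by
          intro k
          induction k with
          | zero => rw [pow_zero, map_one, zero_smul, add_zero]; rfl
          | succ k ihk =>
            rw [pow_succ', map_mul, ev, ihk, map_add, map_nsmul, hd', succ_nsmul]
            simp only [d]; abel
        obtain ⟨e, he⟩ := hUr ⟨v, hU'U hv⟩
        have he' : v ^ r ^ e = 1 := congrArg Subtype.val he
        have h' := hk (r ^ e)
        rw [he', map_one] at h'
        have hd0 : (r ^ e) • d = 0 := (left_eq_add).mp h'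
        have ho1 : addOrderOf d ∣ r ^ e := addOrderOf_dvd_of_nsmul_eq_zero hd0
        have ho2 : addOrderOf d ∣ 3 := addOrderOf_dvd_of_nsmul_eq_zero (h3 d)
        have : addOrderOf d = 1 := Nat.eq_one_of_dvd_coprimes
          (Nat.Coprime.pow_left e ((Nat.coprime_primes Fact.out Nat.prime_three).mpr hr)) ho1 ho2
        exact sub_eq_zero.mp (AddMonoid.addOrderOf_eq_one_iff.mp this)
      have hcomm : ∀ g ∈ U, ∀ h ∈ U, Commute g h := fun g hg h hh =>
        commutatorElement_eq_one_iff_mul_comm.mp (hU'1 _ (Subgroup.commutator_mem_commutator hg hh))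
      let Kinv : Subgroup (MulAut M) :=
        { carrier := {g | g ∈ U ∧ i * g * i⁻¹ = g⁻¹}
          one_mem' := ⟨one_mem _, by simp⟩
          mul_mem' := fun {g h} hg hh => ⟨mul_mem hg.1 hh.1, by
            rw [← conj_mul, hg.2, hh.2, mul_inv_rev]
            exact ((hcomm g hg.1 h hh.1).inv_inv).eq⟩
          inv_mem' := fun {g} hg => ⟨inv_mem hg.1, by rw [← conj_inv, hg.2]⟩ }
      have huinv : i * u * i⁻¹ = u⁻¹ := by
        refine ((?_ : U ≤ Kinv) hu).2
        rw [← h1, hU₁, Subgroup.commutator_le]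
        intro g hg d hd
        refine ⟨hU₁U (Subgroup.commutator_mem_commutator hg hd), ?_⟩
        obtain ⟨k, rfl⟩ := Subgroup.mem_zpowers_iff.mp hd
        rcases Int.even_or_odd k with ⟨s, rfl⟩ | ⟨s, rfl⟩
        · rw [← two_mul, zpow_mul, zpow_two, hi, one_zpow, commutatorElement_one_right]; simp
        rw [zpow_add, zpow_mul, zpow_two, hi, one_zpow, one_mul, zpow_one]
        exact commutator_inverted hi
      have hu1 : u = 1 := by
        refine eq_one_of_inverted h3 hi ha hfix huinv
          (hcomm u hu _ ((Subgroup.mem_normalizer_iff.mp haU u).mp hu)) ?_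
        obtain ⟨e, he⟩ := (IsPGroup.iff_orderOf.mp hUr) ⟨u, hu⟩
        rw [Subgroup.orderOf_mk] at he
        rw [show (6 : ℕ) = 2 * 3 from rfl]
        refine Nat.Coprime.mul_right (Nat.coprime_two_right.mpr (hodd u (hUN hu))) ?_
        rw [he]
        exact Nat.Coprime.pow_left e ((Nat.coprime_primes Fact.out Nat.prime_three).mpr hr)
      rw [hu1]; exact Commute.one_right i
  -- the fixed points have `3`-power index
  set C₀ := N ⊓ Subgroup.centralizer ({i} : Set (MulAut M)) with hC₀
  have hcop4 : (Nat.card (Subgroup.zpowers a)).Coprime (Nat.card N) := by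
    have ha4 : a ^ 4 = 1 := by rw [show 4 = 2 + 2 from rfl, pow_add, pow_two, ha, hi]
    rw [Nat.card_zpowers]
    exact Nat.Coprime.coprime_dvd_left (orderOf_dvd_of_pow_eq_one ha4)
      (show (2 ^ 2).Coprime _ from Nat.Coprime.pow_left 2 (Nat.coprime_two_left.mpr hNodd))
  have hinv : ∀ (r : ℕ) [Fact r.Prime], ∃ S : Subgroup (MulAut M), S ≤ N ∧ IsPGroup r S ∧
      a ∈ Subgroup.normalizer (S : Set (MulAut M)) ∧ ¬ r ∣ S.relIndex N := by
    intro r _
    obtain ⟨S, hS⟩ := Coprime.exists_invariant_sylow (Subgroup.zpowers_le.mpr haN) hcop4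
      (Or.inl (Coprime.isSolvable_zpowers a)) r
    refine ⟨(S : Subgroup N).map N.subtype, Subgroup.map_subtype_le _, S.2.map _,
      hS (Subgroup.mem_zpowers a), ?_⟩
    rw [Subgroup.relIndex, Subgroup.subgroupOf, Subgroup.comap_map_eq_self_of_injective N.subtype_injective]
    exact S.not_dvd_index
  haveI : Fact (Nat.Prime 3) := ⟨Nat.prime_three⟩
  obtain ⟨S, hSN, hS3, haS, hSi⟩ := hinv 3
  have hiS : i ∈ Subgroup.normalizer (S : Set (MulAut M)) := by rw [← ha]; exact mul_mem haS haS
  have hidx : S.relIndex N ∣ Nat.card C₀ := by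
    have h : S.relIndex N ∣ Nat.card N := Subgroup.relIndex_dvd_card S N
    have hC0 : Nat.card C₀ ≠ 0 := Nat.card_pos.ne'
    have hne : S.relIndex N ≠ 0 := Subgroup.index_ne_zero_of_finite
    rw [← Nat.factorization_le_iff_dvd hne hC0]
    intro r
    by_cases hrp : r.Prime
    swap
    · simp [Nat.factorization_eq_zero_of_not_prime _ hrp]
    haveI := Fact.mk hrp
    by_cases hr : r = 3
    · subst hr; rw [Nat.factorization_eq_zero_of_not_dvd hSi]; exact Nat.zero_le _
    obtain ⟨Sr, hSrN, hSrp, haSr, hSri⟩ := hinv r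
    have hle : Sr ≤ C₀ := fun u hu => ⟨hSrN hu,
      Subgroup.mem_centralizer_singleton_iff.mpr (key _ Sr rfl hSrN haSr r hr hSrp u hu).eq.symm⟩
    have e1 : (S.relIndex N).factorization r ≤ (Nat.card N).factorization r :=
      (Nat.factorization_le_iff_dvd hne Nat.card_pos.ne').mpr h r
    have e2 : (Nat.card N).factorization r = (Nat.card Sr).factorization r := by
      rw [← Subgroup.relIndex_bot_left N, ← Subgroup.relIndex_mul_relIndex ⊥ Sr N bot_le hSrN,
        Subgroup.relIndex_bot_left, Nat.factorization_mul Nat.card_pos.ne' (show Sr.relIndex N ≠ 0 from Subgroup.index_ne_zero_of_finite),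
        Finsupp.add_apply, Nat.factorization_eq_zero_of_not_dvd hSri, add_zero]
    exact e1.trans (e2.le.trans ((Nat.factorization_le_iff_dvd Nat.card_pos.ne' hC0).mpr
      (Subgroup.card_dvd_of_le hle) r))
  -- every element is a product from `S` and the fixed points
  have hmul : ∀ x ∈ N, ∃ s ∈ S, ∃ c ∈ C₀, x = s * c := by
    have hNeq : (S : Set (MulAut M)) * (C₀ : Set (MulAut M)) = (N : Set (MulAut M)) := by
      have hsub : (S : Set (MulAut M)) * (C₀ : Set (MulAut M)) ⊆ (N : Set (MulAut M)) := by
        rintro _ ⟨s, hs, c, hc, rfl⟩; exact mul_mem (hSN hs) hc.1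
      refine Set.eq_of_subset_of_ncard_le hsub ?_ (Set.toFinite _)
      set d := Nat.card (S ⊓ C₀ : Subgroup (MulAut M)) with hd
      have h2 : Nat.card C₀ = d * S.relIndex C₀ := by
        rw [← Subgroup.relIndex_bot_left C₀,
          ← Subgroup.relIndex_mul_relIndex ⊥ (S ⊓ C₀) C₀ bot_le inf_le_right,
          Subgroup.relIndex_bot_left, Subgroup.inf_relIndex_right]
      have hco : (S.relIndex N).Coprime d := by
        obtain ⟨e, he⟩ := IsPGroup.iff_card.mp (hS3.to_le (inf_le_left : S ⊓ C₀ ≤ S))
        rw [hd, he]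
        exact Nat.Coprime.pow_right e ((Nat.prime_three.coprime_iff_not_dvd.mpr hSi).symm)
      have h4 : S.relIndex N ∣ S.relIndex C₀ := hco.dvd_of_dvd_mul_left (h2 ▸ hidx)
      have h4' : S.relIndex N ≤ S.relIndex C₀ :=
        Nat.le_of_dvd (Nat.pos_of_ne_zero Subgroup.index_ne_zero_of_finite) h4
      have h5 := Cfsg.Agent.Lib.LocalEven2.CD.card_mul_mul_card_inf S C₀
      rw [Nat.card_coe_set_eq, ← hd, h2] at h5
      have h6 : Nat.card N = Nat.card S * S.relIndex N := by
        rw [← Subgroup.relIndex_bot_left N, ← Subgroup.relIndex_mul_relIndex ⊥ S N bot_le hSN,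
          Subgroup.relIndex_bot_left]
      have h7 : Nat.card N * d ≤ ((S : Set (MulAut M)) * (C₀ : Set (MulAut M))).ncard * d := by
        rw [h5, h6]
        calc Nat.card S * S.relIndex N * d ≤ Nat.card S * S.relIndex C₀ * d :=
              Nat.mul_le_mul_right _ (Nat.mul_le_mul_left _ h4')
          _ = _ := by ring
      rw [show (N : Set (MulAut M)).ncard = Nat.card N from (Nat.card_coe_set_eq _).symm]
      exact le_of_mul_le_mul_right h7 Nat.card_pos
    intro x hx
    obtain ⟨s, hs, c, hc, e⟩ := hNeq.ge hx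
    exact ⟨s, hs, c, hc, e.symm⟩
  refine hS3.to_le ?_
  rw [hN, Subgroup.commutator_le]
  intro c hc d hd
  obtain ⟨k, rfl⟩ := Subgroup.mem_zpowers_iff.mp hd
  rcases Int.even_or_odd k with ⟨s, rfl⟩ | ⟨s, rfl⟩
  · rw [← two_mul, zpow_mul, zpow_two, hi, one_zpow, commutatorElement_one_right]; exact one_mem _
  rw [zpow_add, zpow_mul, zpow_two, hi, one_zpow, one_mul, zpow_one]
  set x := ⁅c, i⁆ with hx
  have hxN : x ∈ N := Subgroup.commutator_mem_commutator hc hiz
  obtain ⟨k, hk⟩ := hodd x hxN
  set s := x ^ (k + 1) with hs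
  have hss : s * s = x := by
    rw [hs, ← pow_add, show k + 1 + (k + 1) = orderOf x + 1 by omega, pow_succ, pow_orderOf_eq_one, one_mul]
  have hsinv : i * s * i⁻¹ = s⁻¹ := by rw [hs, ← conj_pow, commutator_inverted hi, inv_pow]
  obtain ⟨p, hp, q, hq, hpq⟩ := hmul s (pow_mem hxN _)
  have hqi : i * q * i⁻¹ = q := by
    rw [← Subgroup.mem_centralizer_singleton_iff.mp hq.2, mul_assoc, mul_inv_cancel, mul_one]
  have : s * s = p * (i * p * i⁻¹)⁻¹ := by
    calc s * s = s * (s⁻¹)⁻¹ := by rw [inv_inv]
      _ = p * q * (i * (p * q) * i⁻¹)⁻¹ := by rw [← hsinv, hpq]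
      _ = p * q * ((i * q * i⁻¹)⁻¹ * (i * p * i⁻¹)⁻¹) := by group
      _ = _ := by rw [hqi]; group
  rw [← hss, this]
  exact mul_mem hp (inv_mem ((Subgroup.mem_normalizer_iff.mp hiS p).mp hp))

end Cfsg.Agent.Lib.BlockExc
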