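import Cfsg.Agent.Lib.BlockExc.Section
import Cfsg.Agent.Lib.LocalEven2.BaumannModule
import Cfsg.Agent.Lib.LocalEven.PCore

/-!
The exceptional block: the key lemma about elements centralizing the commutator module.
-/

set_option autoImplicit false
set_option maxHeartbeats 400000

namespace Cfsg.Agent.Lib.BlockExc

open scoped commutatorElement
open Cfsg.Agent.Lib.FusionControl (cj)
open Cfsg.Agent.Lib.LocalEven2

variable {G : Type*} [Group G]

/-- The elements normalizing `K` and acting trivially on `U` modulo `K`. -/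
def trivOn (U K : Subgroup G) : Subgroup G where
  carrier := {g | g ∈ Subgroup.normalizer (K : Set G) ∧ ∀ u ∈ U, g * u * g⁻¹ * u⁻¹ ∈ K}
  one_mem' := ⟨one_mem _, fun u _ => by simp⟩
  mul_mem' := fun {g h} hg hh => ⟨mul_mem hg.1 hh.1, fun u hu => by
    rw [show g * h * u * (g * h)⁻¹ * u⁻¹ = (g * (h * u * h⁻¹ * u⁻¹) * g⁻¹) * (g * u * g⁻¹ * u⁻¹) by group]
    exact mul_mem ((Subgroup.mem_normalizer_iff.mp hg.1 _).mp (hh.2 u hu)) (hg.2 u hu)⟩
  inv_mem' := fun {g} hg => ⟨inv_mem hg.1, fun u hu => by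
    rw [show g⁻¹ * u * g⁻¹⁻¹ * u⁻¹ = g⁻¹ * (g * u * g⁻¹ * u⁻¹)⁻¹ * g by group]
    exact (Subgroup.mem_normalizer_iff''.mp hg.1 _).mp (inv_mem (hg.2 u hu))⟩

theorem isPGroup_of_coprime_eq_one [Finite G] {p : ℕ} [Fact p.Prime] {K : Subgroup G}
    (h : ∀ g ∈ K, (orderOf g).Coprime p → g = 1) : IsPGroup p ↥K := by
  rintro ⟨g, hg⟩
  obtain ⟨a, m, hm, he⟩ := Nat.exists_eq_pow_mul_and_not_dvd (orderOf_pos g).ne' p (Fact.out : p.Prime).ne_one
  refine ⟨a, Subtype.ext (show g ^ p ^ a = 1 from h _ (pow_mem hg _) ?_)⟩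
  have ho : orderOf (g ^ p ^ a) = m := by
    rw [orderOf_pow_of_dvd (pow_ne_zero _ (Fact.out : p.Prime).ne_zero) ⟨m, he⟩, he,
      Nat.mul_div_cancel_left _ (Nat.pow_pos (Fact.out : p.Prime).pos)]
  rw [ho]
  exact ((Fact.out : p.Prime).coprime_iff_not_dvd.mpr hm).symm

/-- If `[C, E]` lies in a `p`-group normalizing `E` then `C` normalizes `E`. -/
theorem le_normalizer_of_commutator [Finite G] {p : ℕ} [Fact p.Prime] {E K C : Subgroup G}
    (hres : Cfsg.pResidualOf p E = E) (hK : IsPGroup p ↥K) (hKE : K ≤ Subgroup.normalizer (E : Set G))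
    (h : ∀ c ∈ C, ∀ e ∈ E, c * e * c⁻¹ * e⁻¹ ∈ K) : C ≤ Subgroup.normalizer (E : Set G) := by
  intro c hc
  refine FusionControl.mem_normalizer_of_cj_le (le_trans (le_of_eq (congrArg (cj c) hres.symm)) ?_)
  rw [cj, Cfsg.pResidualOf, Cfsg.pResidual, MonoidHom.map_closure, MonoidHom.map_closure, Subgroup.closure_le]
  rintro _ ⟨_, ⟨e, he, rfl⟩, rfl⟩
  refine Baumann.mem_of_sup_pgroup hK hKE ?_ ?_
  · show c * (e : G) * c⁻¹ ∈ E ⊔ K
    rw [show c * (e : G) * c⁻¹ = (c * (e : G) * c⁻¹ * (e : G)⁻¹) * e by group]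
    exact mul_mem (Subgroup.mem_sup_right (h c hc _ e.2)) (Subgroup.mem_sup_left e.2)
  · show (orderOf (MulAut.conj c (e : G))).Coprime p
    rwa [MulEquiv.orderOf_eq, Subgroup.orderOf_coe]

variable (G) in
/-- The data of an exceptional block. -/
structure Exc (F : Type*) [Field F] where
  T : Sylow 3 G
  E : Subgroup G
  Q : Subgroup G
  W : Subgroup G
  Z : Subgroup G
  X : Subgroup G
  res : Cfsg.pResidualOf 3 E = E
  EB : ⁅E, Cfsg.baumannSubgroupOf 3 (T : Subgroup G)⁆ = E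
  Qdef : Q = Cfsg.pCoreOf 3 E
  Wdef : W = Cfsg.omegaOneCenter 3 Q
  Xdef : X = ⁅W, E⁆
  Qp : IsPGroup 3 ↥Q
  XW : X ≤ W
  Wmem : ∀ w ∈ W, ∃ x ∈ X, ∃ z ∈ Z, w = x * z
  ZW : Z ≤ W
  Zcent : ∀ z ∈ Z, ∀ e ∈ E, e * z = z * e
  QQ : ⁅Q, Q⁆ = Z
  cardZ : Nat.card Z = Nat.card F
  SY : Sec F Q W
  SX : Sec F W Z
  ρY : ↥E →* Matrix.SpecialLinearGroup (Fin 2) F
  ρX : ↥E →* Matrix.SpecialLinearGroup (Fin 2) F
  rangeY : ρY.range = commutator (Matrix.SpecialLinearGroup (Fin 2) F)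
  rangeX : ρX.range = commutator (Matrix.SpecialLinearGroup (Fin 2) F)
  opY : ∀ (e : ↥E) (v : Fin 2 → F), SY.op (e : G) v = ((ρY e : Matrix.SpecialLinearGroup (Fin 2) F) : Matrix (Fin 2) (Fin 2) F).mulVec v
  opX : ∀ (e : ↥E) (v : Fin 2 → F), SX.op (e : G) v = ((ρX e : Matrix.SpecialLinearGroup (Fin 2) F) : Matrix (Fin 2) (Fin 2) F).mulVec v
  kerY : ∀ e : ↥E, ρY e = 1 → (e : G) ∈ Q
  kerX : ∀ e : ↥E, ρX e = 1 → (e : G) ∈ Q
  noquad : ∀ b ∈ Cfsg.baumannSubgroupOf 3 (T : Subgroup G), b ∉ Subgroup.centralizer (W : Set G) →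
    ¬ ⁅⁅Q, Subgroup.zpowers b⁆, Subgroup.zpowers b⁆ ≤ Z
  bmove : ∃ b ∈ Cfsg.baumannSubgroupOf 3 (T : Subgroup G), b ∉ Subgroup.centralizer (W : Set G)

namespace Exc

variable {F : Type*} [Field F] (d : Exc G F)

/-- The Baumann subgroup. -/
abbrev B : Subgroup G := Cfsg.baumannSubgroupOf 3 (d.T : Subgroup G)

/-- The centralizer of the commutator module. -/
abbrev C : Subgroup G := Subgroup.centralizer (d.X : Set G)

theorem QE : d.Q ≤ d.E := d.Qdef ▸ Subgroup.map_subtype_le _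

theorem EQ : d.E ≤ Subgroup.normalizer (d.Q : Set G) := d.Qdef ▸ FusionControl.le_normalizer_map_subtype _

theorem WQ : d.W ≤ d.Q := d.Wdef ▸ (Baumann.omegaOne_le _).trans inf_le_left

theorem Wc {w : G} (hw : w ∈ d.W) {q : G} (hq : q ∈ d.Q) : q * w = w * q := by
  rw [d.Wdef] at hw
  exact Baumann.center_centralizes d.Q (Baumann.omegaOne_le _ hw) hq

theorem QZ {q r : G} (hq : q ∈ d.Q) (hr : r ∈ d.Q) : ⁅q, r⁆ ∈ d.Z :=
  d.QQ ▸ Subgroup.commutator_mem_commutator hq hr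

variable [Finite G]

theorem nW {g : G} (hg : g ∈ Subgroup.normalizer (d.Q : Set G)) : g ∈ Subgroup.normalizer (d.W : Set G) := by
  rw [d.Wdef]; exact Baumann.omegaOneCenter_normalizer hg

omit [Finite G] in
theorem nZ {g : G} (hg : g ∈ Subgroup.normalizer (d.Q : Set G)) : g ∈ Subgroup.normalizer (d.Z : Set G) := by
  rw [← d.QQ]; exact Baumann.le_normalizer_commutator le_rfl le_rfl hg

theorem nY {g : G} (hg : g ∈ Subgroup.normalizer (d.Q : Set G)) : g ∈ Sec.nrm d.Q d.W := ⟨hg, d.nW hg⟩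

theorem nX {g : G} (hg : g ∈ Subgroup.normalizer (d.Q : Set G)) : g ∈ Sec.nrm d.W d.Z := ⟨d.nW hg, d.nZ hg⟩

theorem BE : d.B ≤ Subgroup.normalizer (d.E : Set G) := Baumann.baumann_le_normalizer d.EB

theorem BQ : d.B ≤ Subgroup.normalizer (d.Q : Set G) := by
  rw [d.Qdef]
  exact fun g hg => LocalEven.conjS_eq_self_iff.1 (by
    rw [LocalEven.conjS_pCoreOf, LocalEven.conjS_eq_self_iff.2 (d.BE hg)])

theorem le_nC {H : Subgroup G} (hQ : H ≤ Subgroup.normalizer (d.Q : Set G))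
    (hE : H ≤ Subgroup.normalizer (d.E : Set G)) : H ≤ Subgroup.normalizer (d.C : Set G) := by
  have h : H ≤ Subgroup.normalizer (d.X : Set G) := by
    rw [d.Xdef]
    exact Baumann.le_normalizer_commutator (fun g hg => d.nW (hQ hg)) hE
  exact fun g hg => FusionControl.mem_normalizer_of_cj_le (by
    rintro _ ⟨c, hc, rfl⟩
    rw [SetLike.mem_coe, Subgroup.mem_centralizer_iff] at hc
    refine Subgroup.mem_centralizer_iff.mpr fun x hx => ?_
    have := hc _ ((Subgroup.mem_normalizer_iff''.mp (h hg) x).mp hx)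
    show x * (g * c * g⁻¹) = g * c * g⁻¹ * x
    calc x * (g * c * g⁻¹) = g * ((g⁻¹ * x * g) * c) * g⁻¹ := by group
      _ = g * (c * (g⁻¹ * x * g)) * g⁻¹ := by rw [this]
      _ = _ := by group)

theorem Q_le_C : d.Q ≤ d.C := fun _ hq => Subgroup.mem_centralizer_iff.mpr fun _ hx =>
  (d.Wc (d.XW hx) hq).symm

theorem fixW {g : G} (hg : g ∈ d.C) (hZ : ∀ z ∈ d.Z, g * z = z * g) {w : G} (hw : w ∈ d.W) :
    g * w = w * g := by
  obtain ⟨x, hx, z, hz, rfl⟩ := d.Wmem w hw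
  have h1 : g * x = x * g := (Subgroup.mem_centralizer_iff.mp hg x hx).symm
  rw [← mul_assoc, h1, mul_assoc, hZ z hz, mul_assoc]

theorem opY_Q {q : G} (hq : q ∈ d.Q) (v : Fin 2 → F) : d.SY.op q v = v := by
  refine (d.SY.op_eq_id_iff (d.nY (Subgroup.le_normalizer hq))).mpr (fun u hu => ?_) v
  rw [show u⁻¹ * (q * u * q⁻¹) = ⁅u⁻¹, q⁆ by simp only [commutatorElement_def]; group]
  exact d.ZW (d.QZ (inv_mem hu) hq)

theorem opX_Q {q : G} (hq : q ∈ d.Q) (v : Fin 2 → F) : d.SX.op q v = v := by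
  refine (d.SX.op_eq_id_iff (d.nX (Subgroup.le_normalizer hq))).mpr (fun u hu => ?_) v
  rw [d.Wc hu hq, mul_inv_cancel_right, inv_mul_cancel]; exact one_mem _

/-! ### The commutator form -/

/-- Commutators of representatives. -/
noncomputable def cm (x y : Fin 2 → F) : G := ⁅(d.SY.lift x : G), (d.SY.lift y : G)⁆

theorem cm_spec {u v : G} (hu : u ∈ d.Q) (hv : v ∈ d.Q) :
    ⁅u, v⁆ = d.cm (d.SY.im u hu) (d.SY.im v hv) := by
  set a := d.SY.lift (d.SY.im u hu)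
  set b := d.SY.lift (d.SY.im v hv)
  have hw : (a : G)⁻¹ * u ∈ d.W := (d.SY.im_eq_iff a.2 hu).mp (d.SY.im_lift _)
  have hw' : (b : G)⁻¹ * v ∈ d.W := (d.SY.im_eq_iff b.2 hv).mp (d.SY.im_lift _)
  show _ = ⁅(a : G), (b : G)⁆
  set w := (a : G)⁻¹ * u
  set w' := (b : G)⁻¹ * v
  have hu' : u = a * w := by simp [w]
  have hv' : v = b * w' := by simp [w']
  have e1 : ⁅u, v⁆ = ⁅(a : G), v⁆ := by
    rw [hu', commutatorElement_def, commutatorElement_def]
    calc (a : G) * w * v * (a * w)⁻¹ * v⁻¹ = a * (w * v) * w⁻¹ * (a : G)⁻¹ * v⁻¹ := by group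
      _ = _ := by rw [← d.Wc hw hv]; group
  rw [e1, hv', commutatorElement_def, commutatorElement_def]
  calc (a : G) * (b * w') * (a : G)⁻¹ * (b * w')⁻¹ = a * b * (w' * (a : G)⁻¹) * w'⁻¹ * (b : G)⁻¹ := by group
    _ = _ := by rw [← d.Wc hw' (inv_mem a.2)]; group

theorem cm_mem (x y : Fin 2 → F) : d.cm x y ∈ d.Z := d.QZ (d.SY.lift x).2 (d.SY.lift y).2

theorem cm_self (x : Fin 2 → F) : d.cm x x = 1 := commutatorElement_self _

theorem cm_swap (x y : Fin 2 → F) : d.cm y x = (d.cm x y)⁻¹ := (commutatorElement_inv _ _).symm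

theorem cm_add (x y z : Fin 2 → F) : d.cm (x + y) z = d.cm x z * d.cm y z := by
  set a := d.SY.lift x
  set b := d.SY.lift y
  set c := d.SY.lift z
  have h : d.cm (x + y) z = ⁅(a : G) * b, (c : G)⁆ := by
    rw [d.cm_spec (mul_mem a.2 b.2) c.2, d.SY.im_mul a.2 b.2, d.SY.im_lift, d.SY.im_lift, d.SY.im_lift]
  rw [h, show ⁅(a : G) * b, (c : G)⁆ = a * ⁅(b : G), (c : G)⁆ * (a : G)⁻¹ * ⁅(a : G), (c : G)⁆ by
    simp only [commutatorElement_def]; group]
  show (a : G) * d.cm y z * (a : G)⁻¹ * d.cm x z = _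
  rw [d.Wc (d.ZW (d.cm_mem y z)) a.2, mul_inv_cancel_right,
    d.Wc (d.ZW (d.cm_mem x z)) (d.WQ (d.ZW (d.cm_mem y z)))]

theorem cm_add' (x y z : Fin 2 → F) : d.cm x (y + z) = d.cm x y * d.cm x z := by
  rw [d.cm_swap (y + z) x, d.cm_add, mul_inv_rev, ← d.cm_swap z x, ← d.cm_swap y x,
    d.Wc (d.ZW (d.cm_mem x y)) (d.WQ (d.ZW (d.cm_mem x z)))]

theorem cm_conj {g : G} (hg : g ∈ Subgroup.normalizer (d.Q : Set G)) (x y : Fin 2 → F) :
    g * d.cm x y * g⁻¹ = d.cm (d.SY.op g x) (d.SY.op g y) := by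
  set a := d.SY.lift x
  set b := d.SY.lift y
  have := d.cm_spec (Sec.conj_mem hg a.2) (Sec.conj_mem hg b.2)
  rw [← d.SY.op_im (d.nY hg) a.2, ← d.SY.op_im (d.nY hg) b.2, d.SY.im_lift, d.SY.im_lift] at this
  rw [← this]
  show g * ⁅(a : G), (b : G)⁆ * g⁻¹ = _
  simp only [commutatorElement_def]; group

theorem fixZ_of_form {g : G} (hg : g ∈ Subgroup.normalizer (d.Q : Set G))
    (h : ∀ x y, d.cm (d.SY.op g x) (d.SY.op g y) = d.cm x y) : ∀ z ∈ d.Z, g * z = z * g := by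
  intro z hz
  have : d.Z ≤ Subgroup.centralizer ({g} : Set G) := by
    rw [← d.QQ, Subgroup.commutator_le]
    intro u hu v hv
    rw [Subgroup.mem_centralizer_singleton_iff, d.cm_spec hu hv]
    have := d.cm_conj hg (d.SY.im u hu) (d.SY.im v hv)
    rw [h] at this
    exact (mul_inv_eq_iff_eq_mul.mp this).symm
  exact (Subgroup.mem_centralizer_singleton_iff.mp (this hz)).symm

theorem fixZ_of_id {g : G} (hg : g ∈ Subgroup.normalizer (d.Q : Set G)) (h : ∀ v, d.SY.op g v = v) :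
    ∀ z ∈ d.Z, g * z = z * g :=
  d.fixZ_of_form hg fun x y => by rw [h, h]

theorem cm_neg (x y : Fin 2 → F) : d.cm (-x) y = (d.cm x y)⁻¹ := by
  have h0 : d.cm 0 y = 1 := by
    have := d.cm_add 0 0 y
    rw [add_zero] at this
    exact left_eq_mul.mp this
  have := d.cm_add (-x) x y
  rw [neg_add_cancel, h0] at this
  exact eq_inv_of_mul_eq_one_left this.symm

theorem fixZ_of_neg {g : G} (hg : g ∈ Subgroup.normalizer (d.Q : Set G)) (h : ∀ v, d.SY.op g v = -v) :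
    ∀ z ∈ d.Z, g * z = z * g :=
  d.fixZ_of_form hg fun x y => by
    rw [h, h, d.cm_neg, d.cm_swap (-y) x, inv_inv, d.cm_neg, d.cm_swap x y, inv_inv]

variable [CharP F 3] [Fintype F]

theorem exists_e {s : Matrix.SpecialLinearGroup (Fin 2) F}
    (hs : s ∈ commutator (Matrix.SpecialLinearGroup (Fin 2) F)) :
    ∃ e ∈ d.E, ∀ v, d.SY.op e v = (s : Matrix (Fin 2) (Fin 2) F).mulVec v := by
  obtain ⟨e, rfl⟩ : s ∈ d.ρY.range := d.rangeY.symm ▸ hs
  exact ⟨e, e.2, d.opY e⟩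

omit [CharP F 3] [Fintype F] in
theorem cm_opE {e : G} (he : e ∈ d.E) (x y : Fin 2 → F) :
    d.cm (d.SY.op e x) (d.SY.op e y) = d.cm x y := by
  rw [← d.cm_conj (d.EQ he), d.Zcent _ (d.cm_mem x y) e he, mul_inv_cancel_right]

/-- The commutator form is an injective function of the determinant. -/
theorem exists_form : ∃ L : F → G, Function.Injective L ∧ ∀ x y, d.cm x y = L (dt x y) := by
  set L : F → G := fun t => d.cm ![t, 0] ![0, 1] with hL
  have e0 : ∀ a b : F, (![a + b, 0] : Fin 2 → F) = ![a, 0] + ![b, 0] := fun a b => by simp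
  have Ladd : ∀ a b, L (a + b) = L a * L b := fun a b => by
    simp only [hL]; rw [e0, d.cm_add]
  obtain ⟨er, her, hr⟩ := d.exists_e rot_mem
  have hrot : ∀ t : F, d.SY.op er ![t, 0] = ![0, t] := fun t => by
    rw [hr]; funext i; fin_cases i <;> simp [rot, Matrix.mulVec, dotProduct, Fin.sum_univ_two]
  have hmain : (∀ t s : F, d.cm ![t, 0] ![s, 0] = 1) ∧ ∀ t s : F, d.cm ![t, 0] ![0, s] = L (t * s) := by
    by_cases hcard : 3 < Fintype.card F
    · have hup : ∀ b : F, ∃ e ∈ d.E, ∀ x y : F, d.SY.op e ![x, y] = ![x + b * y, y] := by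
        intro b
        obtain ⟨e, he, hv⟩ := d.exists_e (upper_mem hcard b)
        refine ⟨e, he, fun x y => ?_⟩
        rw [hv]; funext i; fin_cases i <;> simp [upper, Matrix.mulVec, dotProduct, Fin.sum_univ_two]
      have line : ∀ t s : F, d.cm ![t, 0] ![s, 0] = 1 := by
        intro t s
        obtain ⟨e, he, hv⟩ := hup s
        have h := d.cm_opE he ![t, 0] ![0, 1]
        rw [hv, hv, mul_zero, add_zero, mul_one, zero_add,
          show (![s, 1] : Fin 2 → F) = ![s, 0] + ![0, 1] by simp, d.cm_add'] at h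
        exact mul_eq_right.mp h
      refine ⟨line, ?_⟩
      have swap : ∀ b t s : F, d.cm ![b * t, 0] ![0, s] = d.cm ![b * s, 0] ![0, t] := by
        intro b t s
        obtain ⟨e, he, hv⟩ := hup b
        have h0 : d.cm ![0, t] ![0, s] = 1 := by
          rw [← hrot t, ← hrot s, d.cm_opE her, line]
        have h := d.cm_opE he ![0, t] ![0, s]
        rw [hv, hv, zero_add, zero_add, show (![b * t, t] : Fin 2 → F) = ![b * t, 0] + ![0, t] by simp,
          show (![b * s, s] : Fin 2 → F) = ![b * s, 0] + ![0, s] by simp, d.cm_add, d.cm_add', d.cm_add',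
          line, h0, one_mul, mul_one] at h
        rw [eq_inv_of_mul_eq_one_left h, ← d.cm_swap]
      intro t s
      have := swap t 1 s
      rwa [mul_one] at this
    · have h3 : Fintype.card F = 3 := by
        obtain ⟨n, -, hn⟩ := FiniteField.card F 3
        have : 3 ^ 1 ≤ 3 ^ (n : ℕ) := Nat.pow_le_pow_right (by norm_num) n.pos
        omega
      have hcases : ∀ t : F, t = 0 ∨ t = 1 ∨ t = -1 := by
        intro t
        have ht : t ^ 3 = t := by rw [← h3]; exact FiniteField.pow_card t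
        have : t * ((t - 1) * (t + 1)) = 0 := by linear_combination ht
        rcases mul_eq_zero.mp this with h | h
        · exact Or.inl h
        rcases mul_eq_zero.mp h with h | h
        · exact Or.inr (Or.inl (sub_eq_zero.mp h))
        · exact Or.inr (Or.inr (eq_neg_of_add_eq_zero_left h))
      have hz : ∀ y, d.cm 0 y = 1 := fun y => by
        have := d.cm_add 0 0 y
        rw [add_zero] at this
        exact left_eq_mul.mp this
      have hz' : ∀ y, d.cm y 0 = 1 := fun y => by rw [d.cm_swap 0 y, hz, inv_one]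
      have z0 : (![0, 0] : Fin 2 → F) = 0 := by simp
      have n0 : ∀ a : F, (![-a, 0] : Fin 2 → F) = -![a, 0] := fun a => by simp
      have n1 : ∀ a : F, (![0, -a] : Fin 2 → F) = -![0, a] := fun a => by simp
      have cn : ∀ x y, d.cm x (-y) = (d.cm x y)⁻¹ := fun x y => by
        rw [d.cm_swap (-y) x, d.cm_neg, inv_inv, d.cm_swap x y]
      refine ⟨fun t s => ?_, fun t s => ?_⟩
      · rcases hcases t with rfl | rfl | rfl <;> rcases hcases s with rfl | rfl | rfl <;>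
          simp only [z0, hz, hz', n0, d.cm_neg, cn, d.cm_self, inv_one]
      · rcases hcases s with rfl | rfl | rfl
        · simp only [hL, mul_zero, z0, hz, hz']
        · simp only [hL, mul_one]
        · simp only [hL, mul_neg, mul_one, n0, n1, d.cm_neg, cn]
  obtain ⟨line, mixed⟩ := hmain
  have line' : ∀ t s : F, d.cm ![0, t] ![0, s] = 1 := fun t s => by
    rw [← hrot t, ← hrot s, d.cm_opE her, line]
  have hform : ∀ x y, d.cm x y = L (dt x y) := by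
    intro x y
    have hx : x = ![x 0, 0] + ![0, x 1] := by funext i; fin_cases i <;> simp
    have hy : y = ![y 0, 0] + ![0, y 1] := by funext i; fin_cases i <;> simp
    conv_lhs => rw [hx, hy]
    rw [d.cm_add, d.cm_add', d.cm_add', line, line', one_mul, mul_one, d.cm_swap ![y 0, 0] ![0, x 1],
      mixed, mixed]
    have h1 : L (dt x y) * L (y 0 * x 1) = L (x 0 * y 1) := by
      rw [← Ladd]; congr 1; simp [dt]; ring
    rw [← h1, mul_inv_cancel_right]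
  refine ⟨L, ?_, hform⟩
  let L' : F → d.Z := fun t => ⟨L t, d.cm_mem _ _⟩
  have hsurj : Function.Surjective L' := by
    rintro ⟨z, hz⟩
    let S : Subgroup G :=
      { carrier := Set.range L
        one_mem' := ⟨0, by have := Ladd 0 0; rw [add_zero] at this; exact left_eq_mul.mp this⟩
        mul_mem' := by rintro _ _ ⟨a, rfl⟩ ⟨b, rfl⟩; exact ⟨a + b, Ladd a b⟩
        inv_mem' := by
          rintro _ ⟨a, rfl⟩
          exact ⟨-a, by simp only [hL]; rw [show (![-a, 0] : Fin 2 → F) = -![a, 0] by simp, d.cm_neg]⟩ }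
    have : d.Z ≤ S := by
      rw [← d.QQ, Subgroup.commutator_le]
      exact fun u hu v hv => ⟨_, ((d.cm_spec hu hv).trans (hform _ _)).symm⟩
    obtain ⟨t, ht⟩ := this hz
    exact ⟨t, Subtype.ext ht⟩
  have hb := hsurj.bijective_of_nat_card_le (by rw [d.cardZ])
  exact fun a b h => hb.1 (Subtype.ext h)

theorem dt_of_fixZ {g : G} (hg : g ∈ Subgroup.normalizer (d.Q : Set G))
    (hZ : ∀ z ∈ d.Z, g * z = z * g) (x y : Fin 2 → F) : dt (d.SY.op g x) (d.SY.op g y) = dt x y := by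
  obtain ⟨L, hL, hform⟩ := d.exists_form
  apply hL
  rw [← hform, ← hform, ← d.cm_conj hg, hZ _ (d.cm_mem x y), mul_inv_cancel_right]

/-! ### A quadratic element -/

theorem quad_exists : ∃ b ∈ d.B, b ∉ Subgroup.centralizer (d.W : Set G) ∧
    (∀ v, d.SY.op b (d.SY.op b v - v) - (d.SY.op b v - v) = 0) ∧
    (∀ v, d.SX.op b (d.SX.op b v - v) - (d.SX.op b v - v) = 0) := by
  haveI : Fact (Nat.Prime 3) := ⟨Nat.prime_three⟩
  have hBp : IsPGroup 3 d.B := d.T.2.to_le (Baumann.baumann_le _)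
  have hpow : ∀ b ∈ d.B, ∃ k : ℕ, b ^ 3 ^ k = 1 := fun b hb => by
    obtain ⟨k, hk⟩ := hBp ⟨b, hb⟩
    exact ⟨k, congrArg Subtype.val hk⟩
  have lin : ∀ {U U₀ : Subgroup G} (S : Sec F U U₀) (b : G), b ∈ Sec.nrm U U₀ → (∃ k : ℕ, b ^ 3 ^ k = 1) →
      (∀ (a : F) v, S.op b (a • v) = a • S.op b v) →
      ∀ v, S.op b (S.op b v - v) - (S.op b v - v) = 0 := by
    rintro U U₀ S b hb ⟨k, hk⟩ hsm v
    let β : (Fin 2 → F) →ₗ[F] (Fin 2 → F) :=
      { toFun := S.op b, map_add' := S.op_add hb, map_smul' := hsm }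
    refine quad_of_linear β (k := k) (LinearMap.ext fun w => ?_) v
    rw [Module.End.coe_pow]
    show (S.op b)^[3 ^ k] w = w
    rw [S.op_iterate hb, hk, S.op_one]
  by_cases h1 : ∃ b ∈ d.B, b ∈ d.E ∧ b ∉ d.Q
  · obtain ⟨b, hbB, hbE, hbQ⟩ := h1
    refine ⟨b, hbB, fun hc => hbQ (d.kerX ⟨b, hbE⟩ ?_), lin d.SY b (d.nY (d.EQ hbE)) (hpow b hbB)
      (fun a v => by rw [d.opY ⟨b, hbE⟩, d.opY ⟨b, hbE⟩, Matrix.mulVec_smul]),
      lin d.SX b (d.nX (d.EQ hbE)) (hpow b hbB)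
      (fun a v => by rw [d.opX ⟨b, hbE⟩, d.opX ⟨b, hbE⟩, Matrix.mulVec_smul])⟩
    refine Subtype.ext (Matrix.ext_of_mulVec_single fun j => ?_)
    rw [← d.opX ⟨b, hbE⟩]
    show d.SX.op b _ = _
    rw [(d.SX.op_eq_id_iff (d.nX (d.EQ hbE))).mpr fun u hu => by
      rw [(Subgroup.mem_centralizer_iff.mp hc u hu).symm, mul_inv_cancel_right, inv_mul_cancel]
      exact one_mem _]
    exact (Matrix.one_mulVec _).symm
  push Not at h1
  obtain ⟨b, hb, hbW⟩ := d.bmove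
  have hbn := d.BQ hb
  refine ⟨b, hb, hbW, ?_⟩
  -- a Sylow subgroup of `E` normalized by `B`
  obtain ⟨P, hP, hBP⟩ := LocalEven.exists_isSylowOf_le (p := 3) (H := d.E ⊔ d.B) le_sup_right hBp
  have hPB : P ≤ Subgroup.normalizer (d.B : Set G) := Baumann.le_normalizer_baumann d.T hP.isPGroup hBP
  obtain ⟨U₁, hU₁⟩ := LocalEven.exists_isSylowOf 3 d.E
  have hU : LocalEven.IsSylowOf 3 (P ⊓ d.E) d.E := by
    obtain ⟨g, hg, hle⟩ := hP.exists_conj_le (hU₁.le.trans le_sup_left) hU₁.isPGroup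
    have hgE : g ∈ Subgroup.normalizer (d.E : Set G) := (sup_le Subgroup.le_normalizer d.BE) hg
    refine hU₁.of_card inf_le_right (hP.isPGroup.to_le inf_le_left) ?_
    rw [← LocalEven.card_conjS g U₁]
    refine Subgroup.card_le_of_le (le_inf hle ((LocalEven.conjS_mono g hU₁.le).trans ?_))
    rw [LocalEven.conjS_eq_self_iff.2 hgE]
  have hcomm : ∀ u ∈ P ⊓ d.E, b * u * b⁻¹ * u⁻¹ ∈ d.Q := by
    intro u hu
    refine h1 _ ?_ ?_
    · rw [show b * u * b⁻¹ * u⁻¹ = b * (u * b⁻¹ * u⁻¹) by group]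
      exact mul_mem hb ((Subgroup.mem_normalizer_iff.mp (hPB hu.1) _).mp (inv_mem hb))
    · exact mul_mem ((Subgroup.mem_normalizer_iff.mp (d.BE hb) u).mp hu.2) (inv_mem hu.2)
  have key : ∀ {U U₀ : Subgroup G} (S : Sec F U U₀) (ρ : ↥d.E →* Matrix.SpecialLinearGroup (Fin 2) F),
      ρ.range = commutator (Matrix.SpecialLinearGroup (Fin 2) F) →
      (∀ (e : ↥d.E) v, S.op (e : G) v = ((ρ e : Matrix.SpecialLinearGroup (Fin 2) F) : Matrix (Fin 2) (Fin 2) F).mulVec v) →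
      (∀ e : ↥d.E, ρ e = 1 → (e : G) ∈ d.Q) →
      (∀ g ∈ Subgroup.normalizer (d.Q : Set G), g ∈ Sec.nrm U U₀) →
      (∀ q ∈ d.Q, ∀ v, S.op q v = v) →
      ∀ v, S.op b (S.op b v - v) - (S.op b v - v) = 0 := by
    intro U U₀ S ρ hρ hop hker hn hQ
    by_cases hcard : 3 < Fintype.card F
    swap
    · refine lin S b (hn b hbn) (hpow b hb) fun a v => ?_
      have h3 : Fintype.card F = 3 := by
        obtain ⟨n, -, hn⟩ := FiniteField.card F 3
        have : 3 ^ 1 ≤ 3 ^ (n : ℕ) := Nat.pow_le_pow_right (by norm_num) n.pos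
        omega
      obtain ⟨m, rfl⟩ : ∃ m : ℕ, (m : F) = a :=
        ⟨((ZMod.ringEquivOfPrime F Nat.prime_three h3).symm a).val, by
          have := (ZMod.ringEquivOfPrime F Nat.prime_three h3).apply_symm_apply a
          conv_rhs => rw [← this, ← ZMod.natCast_zmod_val ((ZMod.ringEquivOfPrime F Nat.prime_three h3).symm a)]
          rw [map_natCast]⟩
      rw [Nat.cast_smul_eq_nsmul, Nat.cast_smul_eq_nsmul]
      exact map_nsmul (S.opHom (hn b hbn)) m v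
    let Uu : Subgroup G :=
      { carrier := {g | ∃ h : g ∈ d.E, ∃ t : F, ρ ⟨g, h⟩ = upper t}
        one_mem' := ⟨one_mem _, 0, (map_one ρ).trans (Subtype.ext (by simp [upper, Matrix.one_fin_two]))⟩
        mul_mem' := by
          rintro g h ⟨hg, s, hs⟩ ⟨hh, t, ht⟩
          refine ⟨mul_mem hg hh, s + t, ?_⟩
          rw [show (⟨g * h, mul_mem hg hh⟩ : ↥d.E) = ⟨g, hg⟩ * ⟨h, hh⟩ from rfl, map_mul, hs, ht]
          apply Subtype.ext
          show (!![1, s; 0, 1] : Matrix (Fin 2) (Fin 2) F) * !![1, t; 0, 1] = !![1, s + t; 0, 1]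
          rw [Matrix.mul_fin_two]; ext i j; fin_cases i <;> fin_cases j <;> simp [add_comm]
        inv_mem' := by
          rintro g ⟨hg, s, hs⟩
          refine ⟨inv_mem hg, -s, ?_⟩
          rw [show (⟨g⁻¹, inv_mem hg⟩ : ↥d.E) = (⟨g, hg⟩)⁻¹ from rfl, map_inv, hs]
          apply Subtype.ext
          show Matrix.adjugate (!![1, s; 0, 1] : Matrix (Fin 2) (Fin 2) F) = !![1, -s; 0, 1]
          rw [Matrix.adjugate_fin_two_of]; simp }
    have hUup : IsPGroup 3 Uu := by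
      rintro ⟨g, hg, t, ht⟩
      have h3 : g ^ 3 ∈ d.Q := hker (⟨g, hg⟩ ^ 3) (by
        rw [map_pow, ht]
        apply Subtype.ext
        show (!![1, t; 0, 1] : Matrix (Fin 2) (Fin 2) F) ^ 3 = 1
        rw [pow_three, Matrix.mul_fin_two, Matrix.mul_fin_two, Matrix.one_fin_two]
        have h := three_eq (F := F)
        ext i j; fin_cases i <;> fin_cases j <;> simp
        linear_combination t * h)
      obtain ⟨k, hk⟩ := d.Qp ⟨g ^ 3, h3⟩
      exact ⟨k + 1, Subtype.ext (show g ^ 3 ^ (k + 1) = 1 by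
        rw [pow_succ', pow_mul]; exact congrArg Subtype.val hk)⟩
    obtain ⟨g, hg, hle⟩ := hU.exists_conj_le (A := Uu) (fun x ⟨h, _⟩ => h) hUup
    set c := g⁻¹ * b * g
    have hgn := d.EQ hg
    have hcn : c ∈ Subgroup.normalizer (d.Q : Set G) := mul_mem (mul_mem (inv_mem hgn) hbn) hgn
    obtain ⟨k, hk⟩ := hpow b hb
    have hck : c ^ 3 ^ k = 1 := by
      rw [show c = g⁻¹ * b * g⁻¹⁻¹ by simp [c], conj_pow, hk]; group
    have hup : ∀ (t : F) v, S.op c ![v 0 + t * v 1, v 1] = ![S.op c v 0 + t * S.op c v 1, S.op c v 1] := by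
      intro t v
      obtain ⟨e, he⟩ : upper t ∈ ρ.range := hρ.symm ▸ upper_mem hcard t
      have heU : (e : G) ∈ Uu := ⟨e.2, t, he⟩
      have hge : g * (e : G) * g⁻¹ ∈ P ⊓ d.E := hle (LocalEven.mem_conjS.mpr (by simpa [mul_assoc] using heU))
      have hq : g⁻¹ * (b * (g * e * g⁻¹) * b⁻¹ * (g * e * g⁻¹)⁻¹) * g ∈ d.Q :=
        (Subgroup.mem_normalizer_iff''.mp hgn _).mp (hcomm _ hge)
      set q := g⁻¹ * (b * (g * e * g⁻¹) * b⁻¹ * (g * e * g⁻¹)⁻¹) * g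
      have hce : c * e = q * (e * c) := by simp only [c, q]; group
      have hev : ∀ w, S.op (e : G) w = ![w 0 + t * w 1, w 1] := fun w => by
        rw [hop, he]; funext i; fin_cases i <;> simp [upper, Matrix.mulVec, dotProduct, Fin.sum_univ_two]
      have hen := hn _ (d.EQ e.2)
      rw [← hev, ← S.op_mul (hn c hcn) hen, hce, S.op_mul (hn q (Subgroup.le_normalizer hq))
        (hn _ (mul_mem (d.EQ e.2) hcn)), hQ q hq, S.op_mul hen (hn c hcn), hev]
    intro v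
    have hq2 := quad_of_root (S.opHom (hn c hcn)) (k := k) (fun w => by
      show (S.op c)^[3 ^ k] w = w
      rw [S.op_iterate (hn c hcn), hck, S.op_one]) hup (S.op g⁻¹ v)
    have hbc : ∀ w, S.op b w = S.op g (S.op c (S.op g⁻¹ w)) := fun w => by
      rw [← S.op_mul (hn c hcn) (hn _ (inv_mem hgn)),
        ← S.op_mul (hn g hgn) (hn _ (mul_mem hcn (inv_mem hgn)))]
      congr 1; simp [c, mul_assoc]
    let og := S.opHom (hn g hgn)
    have hgg : ∀ w, S.op g (S.op g⁻¹ w) = w := fun w => by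
      rw [← S.op_mul (hn g hgn) (hn _ (inv_mem hgn)), mul_inv_cancel, S.op_one]
    have hgg' : ∀ w, S.op g⁻¹ (S.op g w) = w := fun w => by
      rw [← S.op_mul (hn _ (inv_mem hgn)) (hn g hgn), inv_mul_cancel, S.op_one]
    have hd : S.op b v - v = S.op g (S.op c (S.op g⁻¹ v) - S.op g⁻¹ v) := by
      show _ = og _
      rw [map_sub]
      show _ = S.op g _ - S.op g _
      rw [← hbc, hgg]
    rw [hd, hbc, hgg']
    show og _ - og _ = 0
    rw [← map_sub]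
    exact (congrArg og hq2).trans (map_zero og)
  exact ⟨key d.SY d.ρY d.rangeY d.opY d.kerY (fun _ => d.nY) (fun _ => d.opY_Q),
    key d.SX d.ρX d.rangeX d.opX d.kerX (fun _ => d.nX) (fun _ => d.opX_Q)⟩

/-- No element centralizing `X` inverts `Q / W`. -/
theorem not_neg {g₀ : G} (hg₀ : g₀ ∈ d.C) (hg₀Q : g₀ ∈ Subgroup.normalizer (d.Q : Set G))
    (hneg : ∀ v, d.SY.op g₀ v = -v) : False := by
  haveI : Fact (Nat.Prime 3) := ⟨Nat.prime_three⟩
  obtain ⟨b, hb, hbW, hqY, hqX⟩ := d.quad_exists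
  have hBp : IsPGroup 3 d.B := d.T.2.to_le (Baumann.baumann_le _)
  let Γ : Subgroup G := d.C ⊓ Subgroup.normalizer (d.Q : Set G) ⊓ trivOn d.Q d.W
  have hid : ∀ {g : G}, g ∈ Γ → ∀ v, d.SY.op g v = v := fun {g} hg =>
    (d.SY.op_eq_id_iff (d.nY hg.1.2)).mpr fun u hu => by
      have h1 := hg.2.2 u hu
      have hu' := (Subgroup.mem_normalizer_iff''.mp (d.nW (Subgroup.le_normalizer hu)) _).mp h1
      rw [show u⁻¹ * (g * u * g⁻¹) = u⁻¹ * (g * u * g⁻¹ * u⁻¹) * u by group]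
      exact hu'
  have hΓ : ∀ {g : G}, g ∈ d.C → g ∈ Subgroup.normalizer (d.Q : Set G) → (∀ v, d.SY.op g v = v) → g ∈ Γ := by
    intro g h1 h2 h3
    refine ⟨⟨h1, h2⟩, d.nW h2, fun u hu => ?_⟩
    have := (d.SY.op_eq_id_iff (d.nY h2)).mp h3 u hu
    rw [show g * u * g⁻¹ * u⁻¹ = u * (u⁻¹ * (g * u * g⁻¹)) * u⁻¹ by group]
    exact (Subgroup.mem_normalizer_iff.mp (d.nW (Subgroup.le_normalizer hu)) _).mp this
  have hconj : ∀ {x g : G}, x ∈ Subgroup.normalizer (d.Q : Set G) → x ∈ Subgroup.normalizer (d.C : Set G) →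
      g ∈ Γ → x * g * x⁻¹ ∈ Γ := by
    intro x g hx hxC hg
    refine hΓ ((Subgroup.mem_normalizer_iff.mp hxC g).mp hg.1.1) (mul_mem (mul_mem hx hg.1.2) (inv_mem hx))
      fun v => ?_
    rw [d.SY.op_mul (mul_mem (d.nY hx) (d.nY hg.1.2)) (inv_mem (d.nY hx)),
      d.SY.op_mul (d.nY hx) (d.nY hg.1.2), hid hg, ← d.SY.op_mul (d.nY hx) (inv_mem (d.nY hx)),
      mul_inv_cancel, d.SY.op_one]
  have hBC : d.B ≤ Subgroup.normalizer (d.C : Set G) := d.le_nC d.BQ d.BE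
  have hBΓ : d.B ≤ Subgroup.normalizer (Γ : Set G) := fun x hx => FusionControl.mem_normalizer_of_cj_le (by
    rintro _ ⟨g, hg, rfl⟩; exact hconj (d.BQ hx) (hBC hx) hg)
  -- commutators with `g₀` land in `Γ`
  have hpm : ∀ {g : G}, g ∈ d.C → g ∈ Subgroup.normalizer (d.Q : Set G) →
      ((∀ v, d.SY.op g v = v) ∨ ∀ v, d.SY.op g v = -v) → ∀ x ∈ d.B, g * x * g⁻¹ * x⁻¹ ∈ Γ := by
    intro g hgC hgQ hg x hx
    have hxQ := d.BQ hx
    refine hΓ ?_ (mul_mem (mul_mem (mul_mem hgQ hxQ) (inv_mem hgQ)) (inv_mem hxQ)) fun v => ?_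
    · rw [show g * x * g⁻¹ * x⁻¹ = g * (x * g⁻¹ * x⁻¹) by group]
      exact mul_mem hgC ((Subgroup.mem_normalizer_iff.mp (hBC hx) _).mp (inv_mem hgC))
    have n1 := d.nY hgQ
    have n2 := d.nY hxQ
    rw [d.SY.op_mul (mul_mem (mul_mem n1 n2) (inv_mem n1)) (inv_mem n2),
      d.SY.op_mul (mul_mem n1 n2) (inv_mem n1), d.SY.op_mul n1 n2]
    have hinv : ∀ w, d.SY.op g (d.SY.op g⁻¹ w) = w := fun w => by
      rw [← d.SY.op_mul n1 (inv_mem n1), mul_inv_cancel, d.SY.op_one]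
    have hx' : ∀ w, d.SY.op x (d.SY.op x⁻¹ w) = w := fun w => by
      rw [← d.SY.op_mul n2 (inv_mem n2), mul_inv_cancel, d.SY.op_one]
    rcases hg with hg | hg
    · have : ∀ w, d.SY.op g⁻¹ w = w := fun w => by
        have := hinv w; rwa [hg] at this
      rw [hg, this, hx']
    · have : ∀ w, d.SY.op g⁻¹ w = -w := fun w => by
        have := hinv w; rw [hg] at this; exact neg_eq_iff_eq_neg.mp this
      rw [hg, this]
      show -(d.SY.opHom n2) (-(d.SY.op x⁻¹ v)) = v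
      rw [map_neg, neg_neg]
      exact hx' v
  set L := Γ ⊔ d.B
  obtain ⟨P, hP, hBP⟩ := LocalEven.exists_isSylowOf_le (p := 3) (H := L) le_sup_right hBp
  have hgL : g₀ ∈ Subgroup.normalizer (L : Set G) := by
    refine FusionControl.mem_normalizer_of_cj_le ?_
    rw [cj, Subgroup.map_sup]
    refine sup_le ?_ ?_
    · rintro _ ⟨g, hg, rfl⟩
      exact Subgroup.mem_sup_left (hconj hg₀Q (Subgroup.le_normalizer hg₀) hg)
    · rintro _ ⟨x, hx, rfl⟩
      show g₀ * x * g₀⁻¹ ∈ L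
      rw [show g₀ * x * g₀⁻¹ = g₀ * x * g₀⁻¹ * x⁻¹ * x by group]
      exact mul_mem (Subgroup.mem_sup_left (hpm hg₀ hg₀Q (Or.inr hneg) x hx)) (Subgroup.mem_sup_right hx)
  have hP2 := hP.conjS g₀
  rw [LocalEven.conjS_eq_self_iff.2 hgL] at hP2
  obtain ⟨l, hl, hEq⟩ := hP2.exists_conj hP
  rw [← LocalEven.conjS_mul] at hEq
  have hlP : l * g₀ ∈ Subgroup.normalizer (P : Set G) := LocalEven.conjS_eq_self_iff.1 hEq
  obtain ⟨x, hx, γ, hγ, rfl⟩ : ∃ x ∈ d.B, ∃ γ ∈ Γ, l = x * γ := by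
    have h' : l ∈ d.B ⊔ Γ := sup_comm Γ d.B ▸ hl
    obtain ⟨γ, hγ, x, hx, e⟩ := Coprime.exists_mul_of_mem_sup hBΓ hl
    exact ⟨x, hx, x⁻¹ * γ * x, (Subgroup.mem_normalizer_iff''.mp (hBΓ hx) γ).mp hγ, by rw [e]; group⟩
  have hg1 : γ * g₀ ∈ Subgroup.normalizer (P : Set G) := by
    have hxP : x ∈ Subgroup.normalizer (P : Set G) := Subgroup.le_normalizer (hBP hx)
    have := mul_mem (inv_mem hxP) hlP
    simpa [mul_assoc] using this
  -- pass to a `2`-element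
  set g1 := γ * g₀
  obtain ⟨s, m, hm, he⟩ := Nat.exists_eq_pow_mul_and_not_dvd (orderOf_pos g1).ne' 2 (by norm_num)
  set w := g1 ^ m
  have hw2 : w ^ 2 ^ s = 1 := by rw [← pow_mul, mul_comm, ← he, pow_orderOf_eq_one]
  have hwC : w ∈ d.C := pow_mem (mul_mem hγ.1.1 hg₀) m
  have hg1Q : g1 ∈ Subgroup.normalizer (d.Q : Set G) := mul_mem hγ.1.2 hg₀Q
  have hwQ : w ∈ Subgroup.normalizer (d.Q : Set G) := pow_mem hg1Q m
  have hwneg : ∀ v, d.SY.op w v = -v := by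
    intro v
    have h1 : ∀ u, d.SY.op g1 u = -u := fun u => by
      rw [d.SY.op_mul (d.nY hγ.1.2) (d.nY hg₀Q), hneg, hid hγ]
    have hit : ∀ n u, d.SY.op (g1 ^ (2 * n + 1)) u = -u := by
      intro n
      induction n with
      | zero => intro u; rw [mul_zero, zero_add, pow_one, h1]
      | succ n ih =>
        intro u
        rw [show 2 * (n + 1) + 1 = 2 * n + 1 + 1 + 1 by ring, pow_succ, pow_succ,
          d.SY.op_mul (mul_mem (d.nY (pow_mem hg1Q _)) (d.nY hg1Q)) (d.nY hg1Q),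
          d.SY.op_mul (d.nY (pow_mem hg1Q _)) (d.nY hg1Q), h1, h1, ih, neg_neg]
    obtain ⟨n, rfl⟩ : Odd m := Nat.not_even_iff_odd.mp fun h => hm (even_iff_two_dvd.mp h)
    exact hit n v
  have hwB : w ∈ Subgroup.normalizer (d.B : Set G) := by
    have hwP : w ∈ Subgroup.normalizer (P : Set G) := pow_mem hg1 m
    have hPN : P ≤ Subgroup.normalizer (d.B : Set G) := Baumann.le_normalizer_baumann d.T hP.isPGroup hBP
    have hTi : ¬ 3 ∣ (d.T : Subgroup G).relIndex (Subgroup.normalizer (d.B : Set G)) := fun h =>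
      d.T.not_dvd_index (h.trans (Subgroup.relIndex_dvd_index_of_le (Baumann.sylow_le_normalizer_baumann d.T)))
    obtain ⟨n, hn, hnP⟩ := FusionControl.exists_cj_le_of_not_dvd (Baumann.sylow_le_normalizer_baumann d.T)
      d.T.2 hTi hPN hP.isPGroup
    have hnB : cj n d.B = d.B := FusionControl.mem_normalizer_iff_cj.mp hn
    have e1 : Cfsg.baumannSubgroupOf 3 P = d.B := by
      have h1 : Cfsg.baumannSubgroupOf 3 (cj n P) = d.B :=
        Baumann.baumann_eq_of_between (hnB.ge.trans (FusionControl.cj_le_cj hBP)) hnP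
      rw [Baumann.baumann_cj, ← hnB] at h1
      exact Subgroup.map_injective (MulAut.conj n).injective h1
    rw [FusionControl.mem_normalizer_iff_cj]
    conv_lhs => rw [← e1]
    rw [← Baumann.baumann_cj, FusionControl.mem_normalizer_iff_cj.mp hwP, e1]
  -- an element of the coset `b S` centralizing `w`
  set S := d.B ⊓ Γ
  have hAS : Subgroup.zpowers w ≤ Subgroup.normalizer (S : Set G) := Subgroup.zpowers_le.mpr
    (FusionControl.mem_normalizer_of_cj_le (by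
      rintro _ ⟨g, hg, rfl⟩
      exact ⟨(Subgroup.mem_normalizer_iff.mp hwB g).mp hg.1, hconj hwQ (Subgroup.le_normalizer hwC) hg.2⟩))
  have hbS : b ∈ Subgroup.normalizer (S : Set G) := FusionControl.mem_normalizer_of_cj_le (by
    rintro _ ⟨g, hg, rfl⟩
    exact ⟨(show b * g * b⁻¹ ∈ d.B from mul_mem (mul_mem hb hg.1) (inv_mem hb)), (Subgroup.mem_normalizer_iff.mp (hBΓ hb) g).mp hg.2⟩)
  obtain ⟨n, hn, hnc⟩ := Coprime.exists_mem_centralizer_of_fixed_coset (A := Subgroup.zpowers w) (N := S) hAS (by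
      obtain ⟨e, hee⟩ := IsPGroup.iff_card.mp (hBp.to_le (inf_le_left : S ≤ d.B))
      rw [Nat.card_zpowers, hee]
      exact Nat.Coprime.coprime_dvd_left (orderOf_dvd_of_pow_eq_one hw2)
        (Nat.Coprime.pow s e (by norm_num)))
    (Or.inl (Coprime.isSolvable_zpowers w)) hbS (by
      intro a ha
      obtain ⟨k, rfl⟩ := Subgroup.mem_zpowers_iff.mp ha
      have hpmw : ∀ v, d.SY.op (w ^ k) v = v ∨ True := fun _ => Or.inr trivial
      let A : Subgroup G :=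
        { carrier := {a | a ∈ d.C ∧ a ∈ Subgroup.normalizer (d.Q : Set G) ∧
            a ∈ Subgroup.normalizer (d.B : Set G) ∧ ∀ x ∈ d.B, a * x * a⁻¹ * x⁻¹ ∈ S}
          one_mem' := ⟨one_mem _, one_mem _, one_mem _, fun x _ => by simp⟩
          mul_mem' := fun {g h} hg hh => ⟨mul_mem hg.1 hh.1, mul_mem hg.2.1 hh.2.1, mul_mem hg.2.2.1 hh.2.2.1,
            fun x hx => by
              rw [show g * h * x * (g * h)⁻¹ * x⁻¹ = (g * (h * x * h⁻¹) * g⁻¹ * (h * x * h⁻¹)⁻¹) *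
                (h * x * h⁻¹ * x⁻¹) by group]
              exact mul_mem (hg.2.2.2 _ ((Subgroup.mem_normalizer_iff.mp hh.2.2.1 x).mp hx)) (hh.2.2.2 x hx)⟩
          inv_mem' := fun {g} hg => ⟨inv_mem hg.1, inv_mem hg.2.1, inv_mem hg.2.2.1, fun x hx => by
            have := hg.2.2.2 _ ((Subgroup.mem_normalizer_iff''.mp hg.2.2.1 x).mp hx)
            rw [show g⁻¹ * x * g⁻¹⁻¹ * x⁻¹ = (g * (g⁻¹ * x * g) * g⁻¹ * (g⁻¹ * x * g)⁻¹)⁻¹ by group]
            exact inv_mem this⟩ }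
      have hwA : w ∈ A := ⟨hwC, hwQ, hwB, fun x hx => ⟨(show w * x * w⁻¹ * x⁻¹ ∈ d.B from
        mul_mem ((Subgroup.mem_normalizer_iff.mp hwB x).mp hx) (inv_mem hx)), hpm hwC hwQ (Or.inr hwneg) x hx⟩⟩
      exact (zpow_mem hwA k).2.2.2 b hb)
  set b' := b * n
  have hb'B : b' ∈ d.B := mul_mem hb hn.1
  have hcomm : w * b' = b' * w := Subgroup.mem_centralizer_iff.mp hnc w (Subgroup.mem_zpowers w)
  have hb'Q := d.BQ hb'B
  have hnW : ∀ u ∈ d.W, n * u = u * n := fun u hu =>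
    d.fixW hn.2.1.1 (d.fixZ_of_id hn.2.1.2 (hid hn.2)) hu
  have hopY : ∀ v, d.SY.op b' v = d.SY.op b v := fun v => by
    rw [d.SY.op_mul (d.nY (d.BQ hb)) (d.nY hn.2.1.2), hid hn.2]
  have hopX : ∀ v, d.SX.op b' v = d.SX.op b v := fun v => by
    rw [d.SX.op_mul (d.nX (d.BQ hb)) (d.nX hn.2.1.2),
      (d.SX.op_eq_id_iff (d.nX hn.2.1.2)).mpr fun u hu => by
        rw [hnW u hu, mul_inv_cancel_right, inv_mul_cancel]; exact one_mem _]
  have hb'W : b' ∉ Subgroup.centralizer (d.W : Set G) := fun h => hbW (by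
    have hnc' : n ∈ Subgroup.centralizer (d.W : Set G) :=
      Subgroup.mem_centralizer_iff.mpr fun u hu => (hnW u hu).symm
    simpa [b'] using mul_mem h (inv_mem hnc'))
  apply d.noquad b' hb'B hb'W
  -- `[Q, b', b'] ≤ Z`
  set N := d.Z.subgroupOf d.Q
  haveI : N.Normal := Subgroup.normal_subgroupOf_of_le_normalizer (fun g hg => d.nZ (Subgroup.le_normalizer hg))
  set π := QuotientGroup.mk' N
  have hπc : ∀ u v : ↥d.Q, π u * π v = π v * π u := fun u v => by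
    rw [← map_mul, ← map_mul]
    refine QuotientGroup.eq.mpr ?_
    show ((u : G) * v)⁻¹ * (v * u) ∈ d.Z
    rw [show ((u : G) * v)⁻¹ * (v * u) = ⁅(v : G)⁻¹, (u : G)⁻¹⁆ by simp only [commutatorElement_def]; group]
    exact d.QZ (inv_mem v.2) (inv_mem u.2)
  let δ : ↥d.Q →* ↥d.Q ⧸ N := MonoidHom.mk'
    (fun u => π ⟨b' * u * b'⁻¹, Sec.conj_mem hb'Q u.2⟩ * (π u)⁻¹) (fun u v => by
      have : (⟨b' * ((u * v : ↥d.Q) : G) * b'⁻¹, Sec.conj_mem hb'Q (u * v).2⟩ : ↥d.Q) =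
          ⟨b' * u * b'⁻¹, Sec.conj_mem hb'Q u.2⟩ * ⟨b' * v * b'⁻¹, Sec.conj_mem hb'Q v.2⟩ :=
        Subtype.ext (show b' * ((u : G) * v) * b'⁻¹ = b' * u * b'⁻¹ * (b' * v * b'⁻¹) by group)
      rw [this, map_mul, map_mul, mul_inv_rev (π u) (π v)]
      generalize hA : π ⟨b' * u * b'⁻¹, Sec.conj_mem hb'Q u.2⟩ = A
      generalize hB : π ⟨b' * v * b'⁻¹, Sec.conj_mem hb'Q v.2⟩ = B'
      have c1 : Commute (B' * (π v)⁻¹) (π u)⁻¹ := by
        rw [← hB]; exact (Commute.mul_left (Commute.inv_right (hπc _ u)) (Commute.inv_inv (hπc v u)))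
      calc A * B' * ((π v)⁻¹ * (π u)⁻¹) = A * ((B' * (π v)⁻¹) * (π u)⁻¹) := by group
        _ = A * ((π u)⁻¹ * (B' * (π v)⁻¹)) := by rw [c1.eq]
        _ = _ := by group)
  have hδmem : ∀ u : ↥d.Q, b' * (u : G) * b'⁻¹ * (u : G)⁻¹ ∈ d.Q := fun u =>
    mul_mem (Sec.conj_mem hb'Q u.2) (inv_mem u.2)
  have hδ : ∀ u : ↥d.Q, δ u = π ⟨b' * u * b'⁻¹ * (u : G)⁻¹, hδmem u⟩ := fun u => by
    show _ * (π u)⁻¹ = _
    rw [← map_inv, ← map_mul]; rfl
  have hNker : N ≤ δ.ker := fun u hu => by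
    rw [MonoidHom.mem_ker, hδ]
    exact (QuotientGroup.eq_one_iff _).mpr (mul_mem
      ((Subgroup.mem_normalizer_iff.mp (d.nZ hb'Q) u).mp hu) (inv_mem hu))
  let f : ↥d.Q →* ↥d.Q ⧸ N := (QuotientGroup.lift N δ hNker).comp δ
  have hf : ∀ u : ↥d.Q, f u = δ ⟨b' * u * b'⁻¹ * (u : G)⁻¹, hδmem u⟩ := fun u => by
    show QuotientGroup.lift N δ hNker (δ u) = _
    rw [hδ]; exact QuotientGroup.lift_mk' _ _ _
  have hfW : ∀ u : ↥d.Q, (u : G) ∈ d.W → f u = 1 := by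
    intro u hu
    rw [hf, hδ]
    refine (QuotientGroup.eq_one_iff _).mpr ?_
    have hn' := d.nX hb'Q
    have h1 : b' * u * b'⁻¹ * (u : G)⁻¹ ∈ d.W := mul_mem (Sec.conj_mem hn'.1 hu) (inv_mem hu)
    refine (d.SX.im_eq_zero (mul_mem (Sec.conj_mem hn'.1 h1) (inv_mem h1))).mp ?_
    rw [d.SX.im_mul (Sec.conj_mem hn'.1 h1) (inv_mem h1), d.SX.im_inv h1, ← d.SX.op_im hn' h1,
      d.SX.im_mul (Sec.conj_mem hn'.1 hu) (inv_mem hu), d.SX.im_inv hu, ← d.SX.op_im hn' hu, hopX, hopX,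
      ← sub_eq_add_neg, ← sub_eq_add_neg]
    exact hqX _
  have hker : ∀ u : ↥d.Q, δ ⟨b' * u * b'⁻¹ * (u : G)⁻¹, hδmem u⟩ = 1 := by
    intro u
    rw [← hf]
    set y := b' * (u : G) * b'⁻¹ * (u : G)⁻¹
    set z := b' * y * b'⁻¹ * y⁻¹
    have hz : z ∈ d.W := by
      have hn' := d.nY hb'Q
      refine (d.SY.im_eq_zero (mul_mem (Sec.conj_mem hb'Q (hδmem u)) (inv_mem (hδmem u)))).mp ?_
      rw [d.SY.im_mul (Sec.conj_mem hb'Q (hδmem u)) (inv_mem (hδmem u)), d.SY.im_inv (hδmem u),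
        ← d.SY.op_im hn' (hδmem u), d.SY.im_mul (Sec.conj_mem hb'Q u.2) (inv_mem u.2), d.SY.im_inv u.2,
        ← d.SY.op_im hn' u.2, hopY, hopY, ← sub_eq_add_neg, ← sub_eq_add_neg]
      exact hqY _
    let u' : ↥d.Q := ⟨w * u * w⁻¹, Sec.conj_mem hwQ u.2⟩
    have hfu : f u' = f u := by
      rw [hf, hf, hδ, hδ]
      congr 1
      apply Subtype.ext
      have hbw : w⁻¹ * b' * w = b' := by rw [mul_assoc, ← hcomm, inv_mul_cancel_left]
      show b' * (b' * (w * u * w⁻¹) * b'⁻¹ * (w * (u : G) * w⁻¹)⁻¹) * b'⁻¹ *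
        (b' * (w * u * w⁻¹) * b'⁻¹ * (w * (u : G) * w⁻¹)⁻¹)⁻¹ = z
      have hwz : w * z * w⁻¹ = z := by
        rw [d.fixW hwC (d.fixZ_of_neg hwQ hwneg) hz, mul_inv_cancel_right]
      conv_rhs => rw [← hwz]
      have e : ∀ x : G, b' * (w * x * w⁻¹) * b'⁻¹ = w * (b' * x * b'⁻¹) * w⁻¹ := fun x => by
        calc b' * (w * x * w⁻¹) * b'⁻¹ = w * ((w⁻¹ * b' * w) * x * (w⁻¹ * b' * w)⁻¹) * w⁻¹ := by group
          _ = _ := by rw [hbw]
      rw [e, show w * (b' * u * b'⁻¹) * w⁻¹ * (w * (u : G) * w⁻¹)⁻¹ = w * y * w⁻¹ by simp only [y]; group, e]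
      simp only [z]; group
    have hm : ((u * u' : ↥d.Q) : G) ∈ d.W := by
      refine (d.SY.im_eq_zero (mul_mem u.2 u'.2)).mp ?_
      rw [d.SY.im_mul u.2 u'.2]
      show d.SY.im u u.2 + d.SY.im (w * u * w⁻¹) _ = 0
      rw [← d.SY.op_im (d.nY hwQ) u.2, hwneg, add_neg_cancel]
    have h2 : f u * f u = 1 := by
      nth_rewrite 2 [← hfu]
      rw [← map_mul]; exact hfW _ hm
    obtain ⟨k, hk⟩ := d.Qp u
    have hk' : f u ^ 3 ^ k = 1 := by rw [← map_pow, hk, map_one]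
    obtain ⟨r, hr⟩ : Odd (3 ^ k) := (by decide : Odd 3).pow
    rw [hr, pow_succ, pow_mul, pow_two, h2, one_pow, one_mul] at hk'
    exact hk'
  set Y₁ := δ.ker.map d.Q.subtype
  have hY₁ : ∀ y ∈ Y₁, b' * y * b'⁻¹ * y⁻¹ ∈ d.Z := by
    rintro _ ⟨y, hy, rfl⟩
    rw [SetLike.mem_coe, MonoidHom.mem_ker, hδ] at hy
    have h := (QuotientGroup.eq_one_iff _).mp hy
    exact h
  have hb1 : b' ∈ trivOn Y₁ d.Z := ⟨d.nZ hb'Q, hY₁⟩
  have hb2 : b' ∈ trivOn d.Q Y₁ := by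
    refine ⟨FusionControl.mem_normalizer_of_cj_le ?_, fun q hq => ⟨⟨_, hδmem ⟨q, hq⟩⟩, hker ⟨q, hq⟩, rfl⟩⟩
    rintro _ ⟨y, hy, rfl⟩
    show b' * y * b'⁻¹ ∈ Y₁
    rw [show b' * y * b'⁻¹ = b' * y * b'⁻¹ * y⁻¹ * y by group]
    refine mul_mem ?_ hy
    exact ⟨⟨_, d.WQ (d.ZW (hY₁ y hy))⟩, hNker (hY₁ y hy), rfl⟩
  have h1 : ⁅d.Q, Subgroup.zpowers b'⁆ ≤ Y₁ := Subgroup.commutator_le.mpr fun q hq g hg => by
    obtain ⟨k, rfl⟩ := Subgroup.mem_zpowers_iff.mp hg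
    rw [← commutatorElement_inv, commutatorElement_def]
    exact inv_mem ((zpow_mem hb2 k).2 q hq)
  refine le_trans (Subgroup.commutator_mono h1 le_rfl) (Subgroup.commutator_le.mpr fun q hq g hg => ?_)
  obtain ⟨k, rfl⟩ := Subgroup.mem_zpowers_iff.mp hg
  rw [← commutatorElement_inv, commutatorElement_def]
  exact inv_mem ((zpow_mem hb1 k).2 q hq)

/-- An element centralizing `X` and `Z` and normalizing `Q` is trivial on `Q / W`. -/
theorem key {g : G} (hg : g ∈ d.C) (hgQ : g ∈ Subgroup.normalizer (d.Q : Set G))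
    (hZ : ∀ z ∈ d.Z, g * z = z * g) (v : Fin 2 → F) : d.SY.op g v = v := by
  let Γ₀ : Subgroup G := d.C ⊓ Subgroup.normalizer (d.Q : Set G) ⊓ Subgroup.centralizer (d.Z : Set G)
  have hsl : ∀ x ∈ Γ₀, ∃ s : Matrix.SpecialLinearGroup (Fin 2) F,
      ∀ v, d.SY.op x v = (s : Matrix (Fin 2) (Fin 2) F).mulVec v := fun x hx =>
    exists_sl_of_dt (g := d.SY.opHom (d.nY hx.1.2)) (d.SY.op_surj (d.nY hx.1.2))
      (d.dt_of_fixZ hx.1.2 fun z hz => (Subgroup.mem_centralizer_iff.mp hx.2 z hz).symm)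
  have huniq : ∀ s t : Matrix.SpecialLinearGroup (Fin 2) F,
      (∀ v, (s : Matrix (Fin 2) (Fin 2) F).mulVec v = (t : Matrix (Fin 2) (Fin 2) F).mulVec v) → s = t :=
    fun s t h => Subtype.ext (Matrix.ext_of_mulVec_single fun j => h _)
  let S : Subgroup (Matrix.SpecialLinearGroup (Fin 2) F) :=
    { carrier := {s | ∃ x ∈ Γ₀, ∀ v, d.SY.op x v = (s : Matrix (Fin 2) (Fin 2) F).mulVec v}
      one_mem' := ⟨1, one_mem _, fun v => by rw [d.SY.op_one]; exact (Matrix.one_mulVec v).symm⟩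
      mul_mem' := by
        rintro s t ⟨x, hx, hs⟩ ⟨y, hy, ht⟩
        refine ⟨x * y, mul_mem hx hy, fun v => ?_⟩
        rw [d.SY.op_mul (d.nY hx.1.2) (d.nY hy.1.2), ht, hs, Matrix.mulVec_mulVec]; rfl
      inv_mem' := by
        rintro s ⟨x, hx, hs⟩
        obtain ⟨t, ht⟩ := hsl x⁻¹ (inv_mem hx)
        refine ⟨x⁻¹, inv_mem hx, ?_⟩
        have : s * t = 1 := huniq _ _ fun v => by
          show ((s : Matrix (Fin 2) (Fin 2) F) * (t : Matrix (Fin 2) (Fin 2) F)).mulVec v = (1 : Matrix (Fin 2) (Fin 2) F).mulVec v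
          rw [← Matrix.mulVec_mulVec, ← ht, ← hs, ← d.SY.op_mul (d.nY hx.1.2) (inv_mem (d.nY hx.1.2)),
            mul_inv_cancel, d.SY.op_one, Matrix.one_mulVec]
        rwa [inv_eq_of_mul_eq_one_right this] }
  have hS : S = ⊥ := by
    refine eq_bot_of_no_neg S ?_ ?_
    · rintro r hr s ⟨x, hx, hs⟩
      obtain ⟨e, he⟩ : r ∈ d.ρY.range := d.rangeY.symm ▸ hr
      have heQ := d.EQ e.2
      refine ⟨(e : G) * x * (e : G)⁻¹, ⟨⟨?_, (show (e : G) * x * (e : G)⁻¹ ∈ Subgroup.normalizer (d.Q : Set G) from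
        mul_mem (mul_mem heQ hx.1.2) (inv_mem heQ))⟩, ?_⟩, fun v => ?_⟩
      · exact (Subgroup.mem_normalizer_iff.mp (d.le_nC d.EQ Subgroup.le_normalizer e.2) x).mp hx.1.1
      · refine Subgroup.mem_centralizer_iff.mpr fun z hz => ?_
        have he' := d.Zcent z hz _ e.2
        have hx' := Subgroup.mem_centralizer_iff.mp hx.2 z hz
        calc z * ((e : G) * x * (e : G)⁻¹) = (z * e) * x * (e : G)⁻¹ := by group
          _ = e * (z * x) * (e : G)⁻¹ := by rw [← he']; group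
          _ = e * x * (z * (e : G)⁻¹) := by rw [hx']; group
          _ = _ := by rw [(Commute.inv_right (show Commute z (e : G) from he'.symm)).eq]; group
      · rw [d.SY.op_mul (mul_mem (d.nY heQ) (d.nY hx.1.2)) (inv_mem (d.nY heQ)),
          d.SY.op_mul (d.nY heQ) (d.nY hx.1.2)]
        show d.SY.op (e : G) (d.SY.op x (d.SY.op ((e⁻¹ : ↥d.E) : G) v)) = _
        rw [d.opY, hs, d.opY, map_inv, he, Matrix.mulVec_mulVec, Matrix.mulVec_mulVec]; rfl
    · rintro s ⟨x, hx, hs⟩ hneg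
      refine d.not_neg hx.1.1 hx.1.2 fun v => ?_
      rw [hs, hneg, Matrix.neg_mulVec, Matrix.one_mulVec]
  have hg0 : g ∈ Γ₀ := ⟨⟨hg, hgQ⟩, Subgroup.mem_centralizer_iff.mpr fun z hz => (hZ z hz).symm⟩
  obtain ⟨s, hs⟩ := hsl g hg0
  have : s = 1 := Subgroup.mem_bot.mp (hS ▸ ⟨g, hg0, hs⟩)
  rw [hs, this]
  exact Matrix.one_mulVec v

end Exc

end Cfsg.Agent.Lib.BlockExc
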