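import Cfsg.Agent.Lib.BlockExc.Basic
import Cfsg.Agent.Lib.Cores.Frattini

/-!
The centralizer of the commutator module of a block normalizes the block.
-/

set_option autoImplicit false
set_option maxHeartbeats 1000000

namespace Cfsg.Agent.Lib.BlockExc

open scoped commutatorElement
open Cfsg.Agent.Lib.LocalEven2

variable {G : Type*} [Group G] [Finite G]

theorem trivOn_normalizer {H U K : Subgroup G} (hU : H ≤ Subgroup.normalizer (U : Set G))
    (hK : H ≤ Subgroup.normalizer (K : Set G)) : H ≤ Subgroup.normalizer (trivOn U K : Set G) :=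
  fun h hh => FusionControl.mem_normalizer_of_cj_le (by
    rintro _ ⟨g, hg, rfl⟩
    show h * g * h⁻¹ ∈ trivOn U K
    refine ⟨mul_mem (mul_mem (hK hh) hg.1) (inv_mem (hK hh)), fun u hu => ?_⟩
    have hu' := (Subgroup.mem_normalizer_iff''.mp (hU hh) u).mp hu
    rw [show h * g * h⁻¹ * u * (h * g * h⁻¹)⁻¹ * u⁻¹ =
      h * (g * (h⁻¹ * u * h) * g⁻¹ * (h⁻¹ * u * h)⁻¹) * h⁻¹ by group]
    exact (Subgroup.mem_normalizer_iff.mp (hK hh) _).mp (hg.2 _ hu'))

theorem inf_normalizer {H A B : Subgroup G} (hA : H ≤ Subgroup.normalizer (A : Set G))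
    (hB : H ≤ Subgroup.normalizer (B : Set G)) : H ≤ Subgroup.normalizer ((A ⊓ B : Subgroup G) : Set G) :=
  fun h hh => FusionControl.mem_normalizer_of_cj_le (by
    rintro _ ⟨g, hg, rfl⟩
    exact ⟨(Subgroup.mem_normalizer_iff.mp (hA hh) g).mp hg.1, (Subgroup.mem_normalizer_iff.mp (hB hh) g).mp hg.2⟩)

theorem eq_one_of_centralizes_core {p : ℕ} [Fact p.Prime]
    (hG : Subgroup.centralizer (Cfsg.pCore p G : Set G) ≤ Cfsg.pCore p G) {g : G}
    (hg : g ∈ Subgroup.centralizer (Cfsg.pCore p G : Set G)) (ho : (orderOf g).Coprime p) : g = 1 := by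
  obtain ⟨k, hk⟩ := LocalEven.pCore_isPGroup p G ⟨g, hG hg⟩
  rw [← orderOf_eq_one_iff]
  exact Nat.eq_one_of_dvd_coprimes (ho.pow_right k) dvd_rfl
    (orderOf_dvd_of_pow_eq_one (congrArg Subtype.val hk))

/-- A coset fixed by an element of order prime to `p` contains a fixed element. -/
theorem exists_fixed_mul {p : ℕ} [Fact p.Prime] {g k : G} {N : Subgroup G} (hN : IsPGroup p ↥N)
    (ho : (orderOf g).Coprime p) (hgN : g ∈ Subgroup.normalizer (N : Set G))
    (hk : k ∈ Subgroup.normalizer (N : Set G)) (h : g * k * g⁻¹ * k⁻¹ ∈ N) :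
    ∃ n ∈ N, g * (k * n) = k * n * g := by
  let A : Subgroup G :=
    { carrier := {a | a ∈ Subgroup.normalizer (N : Set G) ∧ a * k * a⁻¹ * k⁻¹ ∈ N}
      one_mem' := ⟨one_mem _, by simp⟩
      mul_mem' := fun {a b} ha hb => ⟨mul_mem ha.1 hb.1, by
        rw [show a * b * k * (a * b)⁻¹ * k⁻¹ = a * (b * k * b⁻¹ * k⁻¹) * a⁻¹ * (a * k * a⁻¹ * k⁻¹) by group]
        exact mul_mem ((Subgroup.mem_normalizer_iff.mp ha.1 _).mp hb.2) ha.2⟩
      inv_mem' := fun {a} ha => ⟨inv_mem ha.1, by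
        rw [show a⁻¹ * k * a⁻¹⁻¹ * k⁻¹ = a⁻¹ * (a * k * a⁻¹ * k⁻¹)⁻¹ * a by group]
        exact (Subgroup.mem_normalizer_iff''.mp ha.1 _).mp (inv_mem ha.2)⟩ }
  have hA : Subgroup.zpowers g ≤ A := Subgroup.zpowers_le.mpr ⟨hgN, h⟩
  obtain ⟨n, hn, hc⟩ := Coprime.exists_mem_centralizer_of_fixed_coset (A := Subgroup.zpowers g) (N := N)
    (fun a ha => (hA ha).1) (by
      obtain ⟨e, he⟩ := IsPGroup.iff_card.mp hN
      rw [Nat.card_zpowers, he]
      exact ho.pow_right e)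
    (Or.inl (Coprime.isSolvable_zpowers g)) hk (fun a ha => (hA ha).2)
  exact ⟨n, hn, Subgroup.mem_centralizer_iff.mp hc g (Subgroup.mem_zpowers g)⟩

theorem centralizes_of_stabilizes {p : ℕ} [Fact p.Prime] {g : G} {K N : Subgroup G} (hN : IsPGroup p ↥N)
    (ho : (orderOf g).Coprime p) (hgN : g ∈ Subgroup.normalizer (N : Set G))
    (hKN : K ≤ Subgroup.normalizer (N : Set G)) (h : ∀ k ∈ K, g * k * g⁻¹ * k⁻¹ ∈ N)
    (hc : g ∈ Subgroup.centralizer (N : Set G)) : g ∈ Subgroup.centralizer (K : Set G) := by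
  refine Subgroup.mem_centralizer_iff.mpr fun k hk => ?_
  obtain ⟨n, hn, e⟩ := exists_fixed_mul hN ho hgN (hKN hk) (h k hk)
  have hn' : g * n = n * g := (Subgroup.mem_centralizer_iff.mp hc n hn).symm
  symm
  calc g * k = g * (k * n) * n⁻¹ := by group
    _ = k * (n * g) * n⁻¹ := by rw [e]; group
    _ = k * g := by rw [← hn']; group

/-- The case in which `[O_p(G), E]` is the commutator module. -/
theorem of_commutator_le {p : ℕ} [Fact p.Prime]
    (hG : Subgroup.centralizer (Cfsg.pCore p G : Set G) ≤ Cfsg.pCore p G) (T : Sylow p G) {E X : Subgroup G}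
    (hres : Cfsg.pResidualOf p E = E) (hEB : ⁅E, Cfsg.baumannSubgroupOf p (T : Subgroup G)⁆ = E)
    (hXR : X ≤ Cfsg.pCore p G) (hRX : Cfsg.pCore p G ≤ Subgroup.centralizer (X : Set G))
    (hnB : Cfsg.baumannSubgroupOf p (T : Subgroup G) ≤ Subgroup.normalizer (X : Set G))
    (hnE : E ≤ Subgroup.normalizer (X : Set G)) (hA : ⁅Cfsg.pCore p G, E⁆ ≤ X) :
    Subgroup.centralizer (X : Set G) ≤ Subgroup.normalizer (E : Set G) := by
  have hRp : IsPGroup p ↥(Cfsg.pCore p G) := LocalEven.pCore_isPGroup p G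
  have hRn : ∀ K : Subgroup G, K ≤ Subgroup.normalizer (Cfsg.pCore p G : Set G) := fun K => by
    rw [Subgroup.normalizer_eq_top_iff.mpr inferInstance]; exact le_top
  set C := Subgroup.centralizer (X : Set G)
  set K := C ⊓ trivOn (Cfsg.pCore p G) X
  have hKp : IsPGroup p ↥K := isPGroup_of_coprime_eq_one fun g hg ho => eq_one_of_centralizes_core hG
    (centralizes_of_stabilizes (hRp.to_le hXR) ho hg.2.1 (hRX.trans (Subgroup.centralizer_le_normalizer _))
      hg.2.2 hg.1) ho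
  have hnC : ∀ {H : Subgroup G}, H ≤ Subgroup.normalizer (X : Set G) → H ≤ Subgroup.normalizer (C : Set G) :=
    fun hH => hH.trans (FusionControl.normalizer_le_normalizer_centralizer X)
  have hnK : ∀ {H : Subgroup G}, H ≤ Subgroup.normalizer (X : Set G) → H ≤ Subgroup.normalizer (K : Set G) :=
    fun hH => inf_normalizer (hnC hH) (trivOn_normalizer (hRn _) hH)
  refine le_normalizer_of_commutator hres hKp
    (Baumann.le_normalizer_block T hres hEB hKp (hnK hnB) (hnK hnE)) fun c hc e he => ⟨?_, ?_⟩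
  · show c * e * c⁻¹ * e⁻¹ ∈ C
    rw [show c * e * c⁻¹ * e⁻¹ = c * (e * c⁻¹ * e⁻¹) by group]
    exact mul_mem hc ((Subgroup.mem_normalizer_iff.mp (hnC hnE he) _).mp (inv_mem hc))
  · have hEt : E ≤ trivOn (Cfsg.pCore p G) X := fun e he => ⟨hnE he, fun u hu => hA (by
      rw [show e * u * e⁻¹ * u⁻¹ = ⁅u, e⁆⁻¹ by simp only [commutatorElement_def]; group]
      exact inv_mem (Subgroup.commutator_mem_commutator hu he))⟩
    show c * e * c⁻¹ * e⁻¹ ∈ trivOn (Cfsg.pCore p G) X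
    exact mul_mem ((Subgroup.mem_normalizer_iff.mp
      (trivOn_normalizer (hRn C) (Subgroup.centralizer_le_normalizer _) hc) e).mp (hEt he)) (inv_mem (hEt he))

namespace Exc

variable {F : Type*} [Field F] (d : Exc G F)

local notation "R₀" => Cfsg.pCore 3 G

theorem RE (hRn : ∀ K : Subgroup G, K ≤ Subgroup.normalizer (R₀ : Set G)) :
    R₀ ≤ Subgroup.normalizer (d.E : Set G) := by
  haveI : Fact (Nat.Prime 3) := ⟨Nat.prime_three⟩
  exact Baumann.le_normalizer_block d.T d.res d.EB (LocalEven.pCore_isPGroup 3 G) (hRn _) (hRn _)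

theorem le_normalizer_core (K : Subgroup G) : K ≤ Subgroup.normalizer (R₀ : Set G) := by
  rw [Subgroup.normalizer_eq_top_iff.mpr inferInstance]; exact le_top

theorem RQ : R₀ ≤ Subgroup.normalizer (d.Q : Set G) := by
  rw [d.Qdef]
  exact fun g hg => LocalEven.conjS_eq_self_iff.1 (by
    rw [LocalEven.conjS_pCoreOf, LocalEven.conjS_eq_self_iff.2 (d.RE le_normalizer_core hg)])

theorem comm_RE {e r : G} (he : e ∈ d.E) (hr : r ∈ R₀) : e * r * e⁻¹ * r⁻¹ ∈ d.Q := by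
  haveI : Fact (Nat.Prime 3) := ⟨Nat.prime_three⟩
  rw [d.Qdef]
  refine LocalEven.le_pCoreOf (N := R₀ ⊓ d.E) inf_le_right ?_
    ((LocalEven.pCore_isPGroup 3 G).to_le inf_le_left) ⟨?_, ?_⟩
  · exact inf_normalizer (le_normalizer_core _) Subgroup.le_normalizer
  · show e * r * e⁻¹ * r⁻¹ ∈ R₀
    exact mul_mem ((Subgroup.mem_normalizer_iff.mp (le_normalizer_core d.E he) r).mp hr) (inv_mem hr)
  · show e * r * e⁻¹ * r⁻¹ ∈ d.E
    rw [show e * r * e⁻¹ * r⁻¹ = e * (r * e⁻¹ * r⁻¹) by group]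
    exact mul_mem he ((Subgroup.mem_normalizer_iff.mp (d.RE le_normalizer_core hr) _).mp (inv_mem he))

variable [CharP F 3] [Fintype F]

/-- `O_3(G)` acts trivially on `Q / W`. -/
theorem R_op {r : G} (hr : r ∈ R₀) (v : Fin 2 → F) : d.SY.op r v = v := by
  have n1 := d.nY (d.RQ hr)
  let A : AddSubgroup (Fin 2 → F) :=
    { carrier := {v | d.SY.op r v = v}
      zero_mem' := map_zero (d.SY.opHom n1)
      add_mem' := fun {a b} ha hb => by
        show d.SY.op r (a + b) = a + b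
        rw [d.SY.op_add n1, show d.SY.op r a = a from ha, show d.SY.op r b = b from hb]
      neg_mem' := fun {a} ha => by
        show d.SY.opHom n1 (-a) = -a
        rw [map_neg]; exact congrArg (- ·) ha }
  have hA : ∀ g ∈ commutator (Matrix.SpecialLinearGroup (Fin 2) F), ∀ w ∈ A,
      (g : Matrix (Fin 2) (Fin 2) F).mulVec w ∈ A := by
    intro g hg w hw
    obtain ⟨e, he, hev⟩ := d.exists_e hg
    show d.SY.op r _ = _
    rw [← hev]
    have n2 := d.nY (d.EQ he)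
    have hq : r * e * r⁻¹ * e⁻¹ ∈ d.Q := by
      rw [show r * e * r⁻¹ * e⁻¹ = (e * r * e⁻¹ * r⁻¹)⁻¹ by group]
      exact inv_mem (d.comm_RE he hr)
    rw [← d.SY.op_mul n1 n2, show r * e = r * e * r⁻¹ * e⁻¹ * (e * r) by group,
      d.SY.op_mul (d.nY (Subgroup.le_normalizer hq)) (mul_mem n2 n1), d.opY_Q hq, d.SY.op_mul n2 n1,
      show d.SY.op r w = w from hw]
  rcases SL2Irred.sl2_irreducible A hA with h | h
  · obtain ⟨k, hk⟩ := LocalEven.pCore_isPGroup 3 G ⟨r, hr⟩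
    obtain ⟨w, hw0, hw⟩ := d.SY.exists_fixed n1 (k := k) (congrArg Subtype.val hk)
    exact absurd (AddSubgroup.mem_bot.mp (h ▸ (hw : w ∈ A))) hw0
  · exact (h ▸ AddSubgroup.mem_top v : v ∈ A)

theorem R_W (hRC : R₀ ≤ d.C) {r w : G} (hr : r ∈ R₀) (hw : w ∈ d.W) : r * w = w * r :=
  d.fixW (hRC hr) (d.fixZ_of_id (d.RQ hr) (d.R_op hr)) hw

theorem exists_involution : ∃ a ∈ d.E, (a * a) * (a * a) = 1 ∧
    (∀ v, d.SY.op (a * a) v = -v) ∧ (∀ v, d.SX.op (a * a) v = -v) ∧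
    ∀ e ∈ d.E, (a * a) * e * (a * a)⁻¹ * e⁻¹ ∈ d.Q := by
  obtain ⟨e, he⟩ : rot F ∈ d.ρY.range := d.rangeY.symm ▸ rot_mem
  obtain ⟨s, m, hm, ho⟩ := Nat.exists_eq_pow_mul_and_not_dvd (orderOf_pos e).ne' 2 (by norm_num)
  set a := e ^ m
  have hρ : ((d.ρY (a * a) : Matrix.SpecialLinearGroup (Fin 2) F) : Matrix (Fin 2) (Fin 2) F) = -1 := by
    rw [show a * a = (e * e) ^ m by simp only [a]; rw [← pow_add, ← two_mul, pow_mul, pow_two],
      map_pow, map_mul, he, Matrix.SpecialLinearGroup.coe_pow, rot_sq]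
    exact (Nat.not_even_iff_odd.mp fun h => hm (even_iff_two_dvd.mp h)).neg_one_pow
  have hY : ∀ v, d.SY.op ((a * a : ↥d.E) : G) v = -v := fun v => by
    rw [d.opY, hρ, Matrix.neg_mulVec, Matrix.one_mulVec]
  have hsq : (a * a) * (a * a) = (1 : ↥d.E) := by
    have h1 : d.ρY ((a * a) * (a * a)) = 1 := by
      rw [map_mul]
      apply Subtype.ext
      show (d.ρY (a * a) : Matrix (Fin 2) (Fin 2) F) * (d.ρY (a * a) : Matrix (Fin 2) (Fin 2) F) = 1
      rw [hρ, neg_mul_neg, one_mul]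
    obtain ⟨k, hk⟩ := d.Qp ⟨_, d.kerY _ h1⟩
    have hk' : ((a * a) * (a * a)) ^ 3 ^ k = 1 := Subtype.ext (by simpa using congrArg Subtype.val hk)
    have h2 : ((a * a) * (a * a)) ^ 2 ^ s = 1 := by
      have : a ^ 2 ^ s = 1 := by
        simp only [a]; rw [← pow_mul, mul_comm, ← ho, pow_orderOf_eq_one]
      rw [show (a * a) * (a * a) = a ^ 4 by simp only [pow_succ, pow_zero, one_mul, mul_assoc], ← pow_mul, mul_comm,
        pow_mul, this, one_pow]
    rw [← orderOf_eq_one_iff]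
    exact Nat.eq_one_of_dvd_coprimes (Nat.Coprime.pow s k (by norm_num))
      (orderOf_dvd_of_pow_eq_one h2) (orderOf_dvd_of_pow_eq_one hk')
  have hx : d.ρX (a * a) * d.ρX (a * a) = 1 := by rw [← map_mul, hsq, map_one]
  have hρX : ((d.ρX (a * a) : Matrix.SpecialLinearGroup (Fin 2) F) : Matrix (Fin 2) (Fin 2) F) = -1 := by
    rcases eq_one_or_neg_of_sq two_ne_zero' hx with h | h
    · exfalso
      have hq := d.kerX _ (Subtype.ext h)
      have := (d.opY_Q hq ![1, 0]).symm.trans (hY ![1, 0])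
      have h0 := congrFun this 0
      simp only [Matrix.cons_val_zero, Pi.neg_apply] at h0
      exact two_ne_zero' (F := F) (by linear_combination h0)
    · exact h
  refine ⟨a, a.2, congrArg Subtype.val hsq, hY, fun v => ?_, fun x hxE => ?_⟩
  · show d.SX.op ((a * a : ↥d.E) : G) v = -v
    rw [d.opX, hρX, Matrix.neg_mulVec, Matrix.one_mulVec]
  · refine d.kerY ((a * a) * ⟨x, hxE⟩ * (a * a)⁻¹ * (⟨x, hxE⟩)⁻¹) ?_
    have hc : d.ρY (a * a) * d.ρY ⟨x, hxE⟩ = d.ρY ⟨x, hxE⟩ * d.ρY (a * a) := by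
      apply Subtype.ext
      show (d.ρY (a * a) : Matrix (Fin 2) (Fin 2) F) * (d.ρY ⟨x, hxE⟩ : Matrix (Fin 2) (Fin 2) F) =
        (d.ρY ⟨x, hxE⟩ : Matrix (Fin 2) (Fin 2) F) * (d.ρY (a * a) : Matrix (Fin 2) (Fin 2) F)
      rw [hρ, neg_one_mul, mul_neg_one]
    rw [map_mul _ _ ((⟨x, hxE⟩ : ↥d.E)⁻¹), map_mul _ _ ((a * a)⁻¹), map_mul _ (a * a), hc, map_inv, map_inv]
    group

/-- The exceptional case. -/
theorem centralizer_le_normalizer_block
    (hG : Subgroup.centralizer (R₀ : Set G) ≤ R₀) (hQR : d.Q ≤ R₀) (hRC : R₀ ≤ d.C) :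
    d.C ≤ Subgroup.normalizer (d.E : Set G) := by
  haveI : Fact (Nat.Prime 3) := ⟨Nat.prime_three⟩
  have hRp : IsPGroup 3 ↥R₀ := LocalEven.pCore_isPGroup 3 G
  obtain ⟨a, haE, hi1, hiY, hiX, hiC⟩ := d.exists_involution
  set i := a * a
  have hiE : i ∈ d.E := mul_mem haE haE
  have hiQ := d.EQ hiE
  have hiinv : i⁻¹ = i := inv_eq_of_mul_eq_one_right hi1
  have hii : ∀ x : G, i * (i * x * i⁻¹) * i⁻¹ = x := fun x => by
    calc i * (i * x * i⁻¹) * i⁻¹ = (i * i) * x * (i * i)⁻¹ := by group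
      _ = x := by rw [hi1]; group
  have hio : (orderOf i).Coprime 3 := by
    have : orderOf i ∣ 2 := orderOf_dvd_of_pow_eq_one (by rw [pow_two]; exact hi1)
    exact Nat.Coprime.coprime_dvd_left this (by norm_num)
  have hQ2 : ∀ {x : G}, x ∈ d.Q → x⁻¹ = x → x = 1 := fun {x} hx he => by
    obtain ⟨k, hk⟩ := d.Qp ⟨x, hx⟩
    rw [← orderOf_eq_one_iff]
    exact Nat.eq_one_of_dvd_coprimes (Nat.Coprime.pow_right k (by norm_num : Nat.Coprime 2 3))
      (orderOf_dvd_of_pow_eq_one (by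
        rw [pow_two]; calc x * x = x⁻¹ * x := by rw [he]
          _ = 1 := inv_mul_cancel x))
      (orderOf_dvd_of_pow_eq_one (congrArg Subtype.val hk))
  have hWc : ∀ {u v : G}, u ∈ d.W → v ∈ d.W → u * v = v * u := fun hu hv => d.Wc hv (d.WQ hu)
  have hW3 : ∀ w ∈ d.W, w ^ 3 = 1 := fun w hw => by
    rw [d.Wdef] at hw
    exact Baumann.omegaOne_pow (fun x hx y hy => Baumann.center_centralizes d.Q hy (Subgroup.mem_inf.mp hx).1) hw
  -- the elements of `W` inverted by `i`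
  let I : Subgroup G :=
    { carrier := {w | w ∈ d.W ∧ i * w * i⁻¹ = w⁻¹}
      one_mem' := ⟨one_mem _, by simp⟩
      mul_mem' := fun {u v} hu hv => ⟨mul_mem hu.1 hv.1, by
        rw [show i * (u * v) * i⁻¹ = (i * u * i⁻¹) * (i * v * i⁻¹) by group, hu.2, hv.2, ← mul_inv_rev,
          hWc hv.1 hu.1]⟩
      inv_mem' := fun {u} hu => ⟨inv_mem hu.1, by
        rw [show i * u⁻¹ * i⁻¹ = (i * u * i⁻¹)⁻¹ by group, hu.2]⟩ }
  have hIE : ∀ {e u : G}, e ∈ d.E → u ∈ I → e * u * e⁻¹ ∈ I := by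
    intro e u he hu
    refine ⟨Sec.conj_mem (d.nW (d.EQ he)) hu.1, ?_⟩
    set q := i * e * i⁻¹ * e⁻¹
    have hq : q ∈ d.Q := hiC e he
    rw [show i * (e * u * e⁻¹) * i⁻¹ = q * (e * (i * u * i⁻¹) * e⁻¹) * q⁻¹ by simp only [q]; group, hu.2,
      d.Wc (Sec.conj_mem (d.nW (d.EQ he)) (inv_mem hu.1)) hq, mul_inv_cancel_right]
    group
  have hXI : d.X ≤ I := by
    rw [d.Xdef, Subgroup.commutator_le]
    intro w hw e he
    set A := i * w * i⁻¹ with hA
    have hAW : A ∈ d.W := Sec.conj_mem (d.nW hiQ) hw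
    have hz : A * w ∈ d.Z := by
      refine (d.SX.im_eq_zero (mul_mem hAW hw)).mp ?_
      rw [d.SX.im_mul hAW hw]
      show d.SX.im (i * w * i⁻¹) _ + _ = _
      rw [← d.SX.op_im (d.nX hiQ) hw, hiX, neg_add_cancel]
    have hu : A * w⁻¹ ∈ I := ⟨mul_mem hAW (inv_mem hw), by
      rw [show i * (A * w⁻¹) * i⁻¹ = (i * A * i⁻¹) * (i * w * i⁻¹)⁻¹ by group,
        show i * A * i⁻¹ = w from hii w]
      show w * A⁻¹ = _
      group⟩
    have e2 : w = (A * w⁻¹) * (A * w)⁻¹ := by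
      have h3 := hW3 w hw
      rw [pow_succ, pow_two] at h3
      calc w = (w * w)⁻¹ := eq_inv_of_mul_eq_one_right h3
        _ = A * A⁻¹ * (w⁻¹ * w⁻¹) := by group
        _ = A * (A⁻¹ * w⁻¹) * w⁻¹ := by group
        _ = A * (w⁻¹ * A⁻¹) * w⁻¹ := by rw [hWc (inv_mem hAW) (inv_mem hw)]
        _ = A * w⁻¹ * (A⁻¹ * w⁻¹) := by group
        _ = A * w⁻¹ * (w⁻¹ * A⁻¹) := by rw [hWc (inv_mem hAW) (inv_mem hw)]
        _ = _ := by group
    rw [e2]
    set u := A * w⁻¹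
    set z := (A * w)⁻¹
    have hze : z * e = e * z := (d.Zcent z (inv_mem hz) e he).symm
    clear_value z u
    rw [show ⁅u * z, e⁆ = u * (e * u⁻¹ * e⁻¹) by
      rw [commutatorElement_def]
      calc u * z * e * (u * z)⁻¹ * e⁻¹ = u * (z * e) * z⁻¹ * u⁻¹ * e⁻¹ := by group
        _ = _ := by rw [hze]; group]
    exact mul_mem hu (hIE he (inv_mem hu))
  have hIZ : ∀ {z : G}, z ∈ d.Z → z ∈ I → z = 1 := fun {z} hz hzI => by
    refine hQ2 (d.WQ (d.ZW hz)) ?_
    rw [← hzI.2, d.Zcent z hz i hiE, mul_inv_cancel_right]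
  have hIX : ∀ {w : G}, w ∈ I → w ∈ d.X := by
    intro w hw
    obtain ⟨x, hx, z, hz, rfl⟩ := d.Wmem w hw.1
    rw [hIZ hz (by simpa using mul_mem (inv_mem (hXI hx)) hw), mul_one]
    exact hx
  have hXZ : ∀ {z : G}, z ∈ d.X → z ∈ d.Z → z = 1 := fun hx hz => hIZ hz (hXI hx)
  -- the normalizer of `X`
  set H := Subgroup.normalizer (d.X : Set G) with hH
  have hCH : d.C ≤ H := Subgroup.centralizer_le_normalizer _
  have hEH : d.E ≤ H := by
    rw [hH, d.Xdef]; exact Baumann.le_normalizer_commutator (fun g hg => d.nW (d.EQ hg)) Subgroup.le_normalizer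
  have hBH : d.B ≤ H := by
    rw [hH, d.Xdef]; exact Baumann.le_normalizer_commutator (fun g hg => d.nW (d.BQ hg)) d.BE
  have hRH : R₀ ≤ H := hRC.trans hCH
  have hXR : d.X ≤ R₀ := d.XW.trans (d.WQ.trans hQR)
  set N₀ := (frattini ↥R₀).map (Subgroup.subtype R₀) with hN₀
  set D := N₀ ⊔ d.X with hD
  have hDR : D ≤ R₀ := sup_le (Subgroup.map_subtype_le _) hXR
  have hHD : H ≤ Subgroup.normalizer (D : Set G) := fun g hg => FusionControl.mem_normalizer_of_cj_le (by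
    rw [hD, FusionControl.cj, Subgroup.map_sup]
    refine sup_le_sup ?_ ?_
    · rintro _ ⟨x, hx, rfl⟩
      exact (inferInstance : N₀.Normal).conj_mem x hx g
    · rintro _ ⟨x, hx, rfl⟩
      exact (Subgroup.mem_normalizer_iff.mp hg x).mp hx)
  have hDp : IsPGroup 3 ↥D := hRp.to_le hDR
  have hfr : ∀ {r s : G}, r ∈ R₀ → s ∈ R₀ → ⁅r, s⁆ ∈ N₀ := fun {r s} hr hs => by
    haveI := hRp.isNilpotent
    exact ⟨⁅(⟨r, hr⟩ : ↥R₀), ⟨s, hs⟩⁆, Cores.commutator_le_frattini (commutator_def ↥R₀ ▸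
      Subgroup.commutator_mem_commutator (Subgroup.mem_top _) (Subgroup.mem_top _)), rfl⟩
  have hZN : d.Z ≤ N₀ := by
    rw [← d.QQ, Subgroup.commutator_le]; exact fun u hu v hv => hfr (hQR hu) (hQR hv)
  have hWD : d.W ≤ D := fun w hw => by
    obtain ⟨x, hx, z, hz, rfl⟩ := d.Wmem w hw
    exact mul_mem (Subgroup.mem_sup_right hx) (Subgroup.mem_sup_left (hZN hz))
  -- fixed points modulo `D`
  have hfix : ∀ {g : G}, g ∈ H → (orderOf g).Coprime 3 → (∀ r ∈ R₀, g * r * g⁻¹ * r⁻¹ ∈ D) →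
      ∀ r ∈ R₀, ∃ x ∈ d.X, ∃ c, g * c = c * g ∧ r = x * c := by
    intro g hg ho htr r hr
    set P := R₀ ⊓ Subgroup.centralizer ({g} : Set G)
    have hmap : ∀ k ∈ R₀, k ∈ ((d.X ⊔ P).subgroupOf R₀ ⊔ frattini ↥R₀).map (Subgroup.subtype R₀) := by
      intro k hk
      obtain ⟨n, hn, e⟩ := exists_fixed_mul hDp ho (hHD hg) (hHD (hRH hk)) (htr k hk)
      have hDle : D ≤ ((d.X ⊔ P).subgroupOf R₀ ⊔ frattini ↥R₀).map (Subgroup.subtype R₀) :=
        sup_le (Subgroup.map_mono le_sup_right) fun x hx =>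
          ⟨⟨x, hXR hx⟩, Subgroup.mem_sup_left (Subgroup.mem_sup_left hx : x ∈ d.X ⊔ P), rfl⟩
      have hkn : k * n ∈ R₀ := mul_mem hk (hDR hn)
      rw [show k = k * n * n⁻¹ by group]
      refine mul_mem ⟨⟨k * n, hkn⟩, Subgroup.mem_sup_left (Subgroup.mem_sup_right
        ⟨hkn, Subgroup.mem_centralizer_singleton_iff.mpr e.symm⟩ : k * n ∈ d.X ⊔ P), rfl⟩ (hDle (inv_mem hn))
    have htop : (d.X ⊔ P).subgroupOf R₀ = ⊤ := frattini_nongenerating (eq_top_iff.mpr fun k _ => by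
      obtain ⟨y, hy, he⟩ := hmap k k.2
      rwa [← Subgroup.subtype_injective _ he])
    have hr' : r ∈ d.X ⊔ P := Subgroup.subgroupOf_eq_top.mp htop hr
    obtain ⟨x, hx, c, hc, e⟩ := Coprime.exists_mul_of_mem_sup (inf_le_left.trans hRH : P ≤ H) hr'
    exact ⟨x, hx, c, (Subgroup.mem_centralizer_singleton_iff.mp hc.2).symm, e⟩
  -- `Q ∩ D ≤ W`
  have hDQ : ∀ q ∈ d.Q, q ∈ D → q ∈ d.W := by
    let A : AddSubgroup (Fin 2 → F) :=
      { carrier := {v | ∃ q, ∃ hq : q ∈ d.Q, q ∈ D ∧ d.SY.im q hq = v}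
        zero_mem' := ⟨1, one_mem _, one_mem _, (d.SY.im_eq_zero _).mpr (one_mem _)⟩
        add_mem' := by
          rintro _ _ ⟨q, hq, hqD, rfl⟩ ⟨r, hr, hrD, rfl⟩
          exact ⟨q * r, mul_mem hq hr, mul_mem hqD hrD, d.SY.im_mul hq hr⟩
        neg_mem' := by
          rintro _ ⟨q, hq, hqD, rfl⟩
          exact ⟨q⁻¹, inv_mem hq, inv_mem hqD, d.SY.im_inv hq⟩ }
    have hA : ∀ g ∈ commutator (Matrix.SpecialLinearGroup (Fin 2) F), ∀ v ∈ A,
        (g : Matrix (Fin 2) (Fin 2) F).mulVec v ∈ A := by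
      intro g hg v hv
      obtain ⟨q, hq, hqD, rfl⟩ := hv
      obtain ⟨e, he, hev⟩ := d.exists_e hg
      exact ⟨e * q * e⁻¹, Sec.conj_mem (d.EQ he) hq, (Subgroup.mem_normalizer_iff.mp (hHD (hEH he)) q).mp hqD,
        by rw [← d.SY.op_im (d.nY (d.EQ he)) hq, hev]⟩
    rcases SL2Irred.sl2_irreducible A hA with h | h
    · intro q hq hqD
      have h' : d.SY.im q hq ∈ A := ⟨q, hq, hqD, rfl⟩
      rw [h, AddSubgroup.mem_bot] at h'
      exact (d.SY.im_eq_zero hq).mp h'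
    · exfalso
      have hQD : d.Q ≤ D := fun q hq => by
        obtain ⟨r, hr, hrD, he⟩ : d.SY.im q hq ∈ A := h ▸ AddSubgroup.mem_top _
        rw [show q = r * (r⁻¹ * q) by group]
        exact mul_mem hrD (hWD ((d.SY.im_eq_iff hr hq).mp he))
      have hv : ∀ v, d.SY.op i v = v := by
        refine (d.SY.op_eq_id_iff (d.nY hiQ)).mpr fun q hq => ?_
        obtain ⟨x, hx, c, hc, rfl⟩ := hfix (hEH hiE) hio (fun r hr => hQD (d.comm_RE hiE hr)) q (hQR hq)
        rw [show i * (x * c) * i⁻¹ = (i * x * i⁻¹) * (i * c * i⁻¹) by group, (hXI hx).2, hc,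
          mul_inv_cancel_right, show (x * c)⁻¹ * (x⁻¹ * c) = c⁻¹ * (x⁻¹ * x⁻¹) * c by group]
        have hcQ : c ∈ d.Q := by simpa using mul_mem (inv_mem (d.WQ (d.XW hx))) hq
        exact (Subgroup.mem_normalizer_iff''.mp (d.nW (Subgroup.le_normalizer hcQ)) _).mp
          (mul_mem (inv_mem (d.XW hx)) (inv_mem (d.XW hx)))
      have h0 := congrFun ((hv ![1, 0]).symm.trans (hiY ![1, 0])) 0
      simp only [Matrix.cons_val_zero, Pi.neg_apply] at h0
      exact two_ne_zero' (F := F) (by linear_combination h0)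
  -- `i` is trivial on `D / X`
  have hiDX : i ∈ trivOn D d.X := ⟨hEH hiE, fun r hr => hIX ⟨hDQ _ (d.comm_RE hiE (hDR hr))
    (mul_mem ((Subgroup.mem_normalizer_iff.mp (hHD (hEH hiE)) r).mp hr) (inv_mem hr)), by
      rw [show i * (i * r * i⁻¹ * r⁻¹) * i⁻¹ = (i * (i * r * i⁻¹) * i⁻¹) * (i * r * i⁻¹)⁻¹ by group, hii]
      group⟩⟩
  -- `Q` is determined by `i`
  have hQeq : d.Q = ⁅R₀, Subgroup.zpowers i⁆ ⊔ d.X := by
    refine le_antisymm ?_ (sup_le ?_ (d.XW.trans d.WQ))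
    · have h1 : ∀ q ∈ d.Q, ∃ u ∈ ⁅R₀, Subgroup.zpowers i⁆, ∃ w ∈ d.W, q = u * w := fun q hq => by
        have hu : i * q * i⁻¹ * q⁻¹ ∈ ⁅R₀, Subgroup.zpowers i⁆ := by
          rw [show i * q * i⁻¹ * q⁻¹ = ⁅q, i⁆⁻¹ by simp only [commutatorElement_def]; group]
          exact inv_mem (Subgroup.commutator_mem_commutator (hQR hq) (Subgroup.mem_zpowers i))
        refine ⟨_, hu, (i * q * i⁻¹ * q⁻¹)⁻¹ * q, ?_, by group⟩
        have hq' := Sec.conj_mem hiQ hq
        refine (d.SY.im_eq_zero (mul_mem (inv_mem (mul_mem hq' (inv_mem hq))) hq)).mp ?_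
        rw [d.SY.im_mul (inv_mem (mul_mem hq' (inv_mem hq))) hq, d.SY.im_inv (mul_mem hq' (inv_mem hq)),
          d.SY.im_mul hq' (inv_mem hq), d.SY.im_inv hq, ← d.SY.op_im (d.nY hiQ) hq, hiY]
        funext j
        simp only [Pi.add_apply, Pi.neg_apply, Pi.zero_apply]
        linear_combination (d.SY.im q hq j) * three_eq (F := F)
      have hZ : d.Z ≤ ⁅R₀, Subgroup.zpowers i⁆ := by
        rw [← d.QQ, Subgroup.commutator_le]
        intro q hq r hr
        obtain ⟨u, hu, w, hw, rfl⟩ := h1 q hq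
        obtain ⟨u', hu', w', hw', rfl⟩ := h1 r hr
        have hu'Q : u' ∈ d.Q := by simpa using mul_mem hr (inv_mem (d.WQ hw'))
        have huQ : u ∈ d.Q := by simpa using mul_mem hq (inv_mem (d.WQ hw))
        have e : ⁅u * w, u' * w'⁆ = ⁅u, u'⁆ := by
          simp only [commutatorElement_def]
          calc u * w * (u' * w') * (u * w)⁻¹ * (u' * w')⁻¹ =
              u * (w * (u' * w')) * w⁻¹ * u⁻¹ * (u' * w')⁻¹ := by group
            _ = u * u' * (w' * u⁻¹) * w'⁻¹ * u'⁻¹ := by rw [← d.Wc hw hr]; group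
            _ = _ := by rw [← d.Wc hw' (inv_mem huQ)]; group
        rw [e, commutatorElement_def]
        exact mul_mem (mul_mem (mul_mem hu hu') (inv_mem hu)) (inv_mem hu')
      intro q hq
      obtain ⟨u, hu, w, hw, rfl⟩ := h1 q hq
      obtain ⟨x, hx, z, hz, rfl⟩ := d.Wmem w hw
      exact mul_mem (Subgroup.mem_sup_left hu) (mul_mem (Subgroup.mem_sup_right hx) (Subgroup.mem_sup_left (hZ hz)))
    · refine Subgroup.commutator_le.mpr fun r hr g hg => ?_
      rw [show ⁅r, g⁆ = (g * r * g⁻¹ * r⁻¹)⁻¹ by simp only [commutatorElement_def]; group]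
      exact inv_mem (d.comm_RE (Subgroup.zpowers_le.mpr hiE hg) hr)
  have hQn : ∀ {g : G}, g ∈ H → g * i = i * g → g ∈ Subgroup.normalizer (d.Q : Set G) := by
    intro g hg hgi
    have h1 : g ∈ Subgroup.normalizer (Subgroup.zpowers i : Set G) :=
      Subgroup.centralizer_le_normalizer _ (Subgroup.mem_centralizer_iff.mpr fun x hx => by
        obtain ⟨k, rfl⟩ := Subgroup.mem_zpowers_iff.mp hx
        exact (Commute.zpow_left (show Commute i g from hgi.symm) k).eq)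
    have h2 : g ∈ Subgroup.normalizer ((⁅R₀, Subgroup.zpowers i⁆ : Subgroup G) : Set G) :=
      Baumann.le_normalizer_commutator (le_normalizer_core _) (Subgroup.zpowers_le.mpr h1) (Subgroup.mem_zpowers g)
    refine FusionControl.mem_normalizer_of_cj_le ?_
    rw [hQeq, FusionControl.cj, Subgroup.map_sup]
    exact sup_le_sup (FusionControl.mem_normalizer_iff_cj.mp h2).le (FusionControl.mem_normalizer_iff_cj.mp hg).le
  -- the module `R / D`
  set Dr := D.subgroupOf R₀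
  haveI : Dr.Normal := Subgroup.normal_subgroupOf_of_le_normalizer (hRH.trans hHD)
  letI : CommGroup (↥R₀ ⧸ Dr) :=
    { (inferInstance : Group (↥R₀ ⧸ Dr)) with
      mul_comm := fun x y => by
        induction x using QuotientGroup.induction_on with | _ r =>
        induction y using QuotientGroup.induction_on with | _ s =>
        rw [← QuotientGroup.mk_mul, ← QuotientGroup.mk_mul, QuotientGroup.eq]
        show ((r * s : G))⁻¹ * (s * r) ∈ D
        rw [show ((r * s : G))⁻¹ * (s * r) = ⁅(s : G)⁻¹, (r : G)⁻¹⁆ by simp only [commutatorElement_def]; group]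
        exact Subgroup.mem_sup_left (hfr (inv_mem s.2) (inv_mem r.2)) }
  have hmap : ∀ g : ↥H, Dr.map (MulAut.conjNormal (g : G) : MulAut ↥R₀).toMonoidHom = Dr := by
    intro g
    ext x
    rw [Subgroup.mem_map]
    constructor
    · rintro ⟨y, hy, rfl⟩
      show ((MulAut.conjNormal (g : G) y : ↥R₀) : G) ∈ D
      rw [MulAut.conjNormal_apply]
      exact (Subgroup.mem_normalizer_iff.mp (hHD g.2) _).mp hy
    · intro hx
      refine ⟨(MulAut.conjNormal (g : G) : MulAut ↥R₀).symm x, ?_, MulEquiv.apply_symm_apply _ _⟩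
      show (((MulAut.conjNormal (g : G) : MulAut ↥R₀).symm x : ↥R₀) : G) ∈ D
      rw [MulAut.conjNormal_symm_apply]
      exact (Subgroup.mem_normalizer_iff''.mp (hHD g.2) _).mp hx
  let φ : ↥H →* MulAut (↥R₀ ⧸ Dr) :=
    { toFun := fun g => QuotientGroup.congr Dr Dr (MulAut.conjNormal (g : G)) (hmap g)
      map_one' := by
        ext x
        induction x using QuotientGroup.induction_on with | _ r =>
        show ((MulAut.conjNormal (1 : G) r : ↥R₀) : ↥R₀ ⧸ Dr) = (r : ↥R₀ ⧸ Dr)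
        rw [map_one]; rfl
      map_mul' := fun g h => by
        ext x
        induction x using QuotientGroup.induction_on with | _ r =>
        show ((MulAut.conjNormal ((g : G) * h) r : ↥R₀) : ↥R₀ ⧸ Dr) =
          ((MulAut.conjNormal (g : G) (MulAut.conjNormal (h : G) r) : ↥R₀) : ↥R₀ ⧸ Dr)
        rw [map_mul]; rfl }
  have hφ : ∀ (g : ↥H) (r : ↥R₀),
      φ g (r : ↥R₀ ⧸ Dr) = ((MulAut.conjNormal (g : G) r : ↥R₀) : ↥R₀ ⧸ Dr) := fun g r => rfl
  have hφiff : ∀ (g : ↥H) (r : ↥R₀), φ g (r : ↥R₀ ⧸ Dr) = (r : ↥R₀ ⧸ Dr) ↔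
      (g : G) * r * (g : G)⁻¹ * (r : G)⁻¹ ∈ D := by
    intro g r
    rw [hφ, QuotientGroup.eq_iff_div_mem, div_eq_mul_inv]
    show ((MulAut.conjNormal (g : G) r : ↥R₀) : G) * (r : G)⁻¹ ∈ D ↔ _
    rw [MulAut.conjNormal_apply]
  have h3 : ∀ x : Additive (↥R₀ ⧸ Dr), (3 : ℕ) • x = 0 := by
    intro x
    obtain ⟨r, rfl⟩ := QuotientGroup.mk_surjective (Additive.toMul x) |>.imp fun r h =>
      (show Additive.ofMul ((r : ↥R₀) : ↥R₀ ⧸ Dr) = x from congrArg Additive.ofMul h)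
    rw [← ofMul_pow, ← QuotientGroup.mk_pow, ofMul_eq_zero, QuotientGroup.eq_one_iff]
    exact Subgroup.mem_sup_left ⟨r ^ 3, Cores.pow_mem_frattini hRp r, rfl⟩
  have hkerφ : ∀ g : ↥H, (g : G) ∈ d.C → φ g = 1 → (orderOf (g : G)).Coprime 3 → (g : G) = 1 := by
    intro g hgC hg ho
    refine eq_one_of_centralizes_core hG (Subgroup.mem_centralizer_iff.mpr fun r hr => ?_) ho
    obtain ⟨x, hx, c, hc, rfl⟩ := hfix g.2 ho (fun k hk => (hφiff g ⟨k, hk⟩).mp (by rw [hg]; rfl)) r hr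
    rw [mul_assoc, ← hc, ← mul_assoc, Subgroup.mem_centralizer_iff.mp hgC x hx, mul_assoc]
  set i' : ↥H := ⟨i, hEH hiE⟩
  set a' : ↥H := ⟨a, hEH haE⟩
  have hii' : i' = a' * a' := rfl
  set Cs := d.C.subgroupOf H
  have hnC : d.E ≤ Subgroup.normalizer (d.C : Set G) := d.le_nC d.EQ Subgroup.le_normalizer
  have hφn : ∀ g : ↥H, (g : G) ∈ Subgroup.normalizer (d.C : Set G) →
      φ g ∈ Subgroup.normalizer (Cs.map φ : Set (MulAut (↥R₀ ⧸ Dr))) := fun g hg =>
    Subgroup.le_normalizer_map φ ⟨g, Subgroup.mem_normalizer_iff.mpr fun c =>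
      Subgroup.mem_normalizer_iff.mp hg c, rfl⟩
  have hord : orderOf (φ i') = 2 := by
    refine orderOf_eq_prime ?_ ?_
    · rw [← map_pow, show i' ^ 2 = 1 from Subtype.ext (by rw [pow_two]; exact hi1), map_one]
    · intro h
      obtain ⟨q, hq, hqv⟩ := d.SY.exists_im ![1, 0]
      have h' := (hφiff i' ⟨q, hQR hq⟩).mp (by rw [h]; rfl)
      have hq' := Sec.conj_mem hiQ hq
      have h0 := (d.SY.im_eq_zero (mul_mem hq' (inv_mem hq))).mpr
        (hDQ _ (mul_mem hq' (inv_mem hq)) h')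
      rw [d.SY.im_mul hq' (inv_mem hq), d.SY.im_inv hq, ← d.SY.op_im (d.nY hiQ) hq, hiY, hqv] at h0
      have h1 := congrFun h0 0
      simp only [Pi.add_apply, Pi.neg_apply, Pi.zero_apply, Matrix.cons_val_zero] at h1
      exact one_ne_zero (α := F) (by linear_combination h1 + three_eq (F := F))
  set N1 := ⁅d.C, Subgroup.zpowers i⁆ with hN1
  have hN1C : N1 ≤ d.C := Coprime.commutator_le_of_le_normalizer (Subgroup.zpowers_le.mpr (hnC hiE))
  have hN1map : ⁅Cs, Subgroup.zpowers i'⁆.map H.subtype = N1 := by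
    rw [Subgroup.map_commutator, Subgroup.map_subgroupOf_eq_of_le hCH, MonoidHom.map_zpowers]; rfl
  have hN1t : N1 ≤ trivOn D d.X := Subgroup.commutator_le.mpr fun c hc g hg => by
    have hgt : g ∈ trivOn D d.X := Subgroup.zpowers_le.mpr hiDX hg
    exact mul_mem ((Subgroup.mem_normalizer_iff.mp
      (trivOn_normalizer (hCH.trans hHD) hCH hc) g).mp hgt) (inv_mem hgt)
  have himg : ⁅Cs.map φ, Subgroup.zpowers (φ i')⁆ = ⁅Cs, Subgroup.zpowers i'⁆.map φ := by
    rw [Subgroup.map_commutator, MonoidHom.map_zpowers]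
  set Nk := N1 ⊓ (φ.ker).map H.subtype with hNk
  have hNkp : IsPGroup 3 ↥Nk := isPGroup_of_coprime_eq_one fun g hg ho => by
    obtain ⟨g', hg', rfl⟩ := hg.2
    exact hkerφ g' (hN1C hg.1) hg' ho
  have hM : IsPGroup 3 ↥⁅Cs.map φ, Subgroup.zpowers (φ i')⁆ := by
    refine commutator_isPGroup h3 (Cs.map φ) (φ i') (φ a') hord (by rw [← map_mul, ← hii'])
      (hφn i' (hnC hiE)) (hφn a' (hnC haE)) (fun x hx => ?_) (fun cb hcb hcomm y hy => ?_)
    · obtain ⟨r, hr⟩ := QuotientGroup.mk_surjective (Additive.toMul x)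
      have hx' : φ i' (r : ↥R₀ ⧸ Dr) = r := by rw [hr]; exact congrArg Additive.toMul hx
      show Additive.ofMul (φ a' (Additive.toMul x)) = x
      rw [← hr, (hφiff a' r).mpr ?_, hr]; · rfl
      set q := a * (r : G) * a⁻¹ * (r : G)⁻¹
      have hq : q ∈ d.Q := d.comm_RE haE r.2
      have h' := (hφiff i' r).mp hx'
      have hd : i * q * i⁻¹ * q⁻¹ ∈ D := by
        have h1 : φ i' ((⟨q, hQR hq⟩ : ↥R₀) : ↥R₀ ⧸ Dr) = ((⟨q, hQR hq⟩ : ↥R₀) : ↥R₀ ⧸ Dr) := by
          have e : ((⟨q, hQR hq⟩ : ↥R₀) : ↥R₀ ⧸ Dr) = φ a' r * (r : ↥R₀ ⧸ Dr)⁻¹ := by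
            rw [hφ, ← QuotientGroup.mk_inv, ← QuotientGroup.mk_mul]
            exact congrArg _ (Subtype.ext (by
              show q = ((MulAut.conjNormal a r : ↥R₀) : G) * (r : G)⁻¹
              rw [MulAut.conjNormal_apply]))
          have hc : φ i' * φ a' = φ a' * φ i' := by
            rw [hii', map_mul, mul_assoc]
          rw [e, map_mul, map_inv, hx', ← MulAut.mul_apply, hc, MulAut.mul_apply, hx']
        exact (hφiff i' ⟨q, hQR hq⟩).mp h1
      have hq' := Sec.conj_mem hiQ hq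
      have h0 := (d.SY.im_eq_zero (mul_mem hq' (inv_mem hq))).mpr (hDQ _ (mul_mem hq' (inv_mem hq)) hd)
      rw [d.SY.im_mul hq' (inv_mem hq), d.SY.im_inv hq, ← d.SY.op_im (d.nY hiQ) hq, hiY] at h0
      refine hWD ((d.SY.im_eq_zero hq).mp ?_)
      funext j
      have h1 := congrFun h0 j
      simp only [Pi.add_apply, Pi.neg_apply, Pi.zero_apply] at h1 ⊢
      linear_combination h1 + (d.SY.im q hq j) * three_eq (F := F)
    · rw [himg] at hcb
      obtain ⟨c, hc, rfl⟩ := hcb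
      have hcN : (c : G) ∈ N1 := hN1map ▸ ⟨c, hc, rfl⟩
      have hcC : (c : G) ∈ d.C := hN1C hcN
      have hnk : ∀ g : ↥H, (g : G) ∈ Subgroup.normalizer (N1 : Set G) →
          (g : G) ∈ Subgroup.normalizer (Nk : Set G) := fun g hg =>
        FusionControl.mem_normalizer_of_cj_le (by
          rintro _ ⟨x, hx, rfl⟩
          obtain ⟨x', hx', rfl⟩ := hx.2
          exact ⟨(Subgroup.mem_normalizer_iff.mp hg _).mp hx.1, g * x' * g⁻¹,
            (inferInstance : φ.ker.Normal).conj_mem x' hx' g, rfl⟩)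
      have hd : i * (c : G) * i⁻¹ * (c : G)⁻¹ ∈ Nk := by
        refine ⟨(show i * (c : G) * i⁻¹ * (c : G)⁻¹ ∈ N1 from mul_mem ((Subgroup.mem_normalizer_iff.mp
          (Subgroup.normalizer_commutator_ge_right _ _ (Subgroup.mem_zpowers i)) _).mp hcN) (inv_mem hcN)),
          i' * c * i'⁻¹ * c⁻¹, ?_, rfl⟩
        show i' * c * i'⁻¹ * c⁻¹ ∈ φ.ker
        rw [MonoidHom.mem_ker, map_mul, map_mul, map_mul, map_inv, map_inv, hcomm.eq,
          mul_inv_cancel_right, mul_inv_cancel]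
      obtain ⟨n, hn, hni⟩ := exists_fixed_mul hNkp hio
        (hnk i' (Subgroup.normalizer_commutator_ge_right _ _ (Subgroup.mem_zpowers i)))
        (hnk c (Subgroup.le_normalizer hcN)) hd
      have hcn : (c : G) * n ∈ N1 := mul_mem hcN hn.1
      obtain ⟨n', hn', rfl⟩ := hn.2
      set c' : ↥H := c * n'
      have hφc : φ c' = φ c := by rw [map_mul, MonoidHom.mem_ker.mp hn', mul_one]
      have hc'C : (c' : G) ∈ d.C := hN1C hcn
      have hc'Q : (c' : G) ∈ Subgroup.normalizer (d.Q : Set G) := hQn c'.2 hni.symm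
      have hc'Z : ∀ z ∈ d.Z, (c' : G) * z = z * c' := fun z hz => by
        refine mul_inv_eq_iff_eq_mul.mp (mul_inv_eq_one.mp (hXZ ?_ ?_))
        · exact (hN1t hcn).2 z (Subgroup.mem_sup_left (hZN hz))
        · exact mul_mem ((Subgroup.mem_normalizer_iff.mp (d.nZ hc'Q) z).mp hz) (inv_mem hz)
      obtain ⟨r, hr⟩ := QuotientGroup.mk_surjective (Additive.toMul y)
      set q := i * (r : G) * i⁻¹ * (r : G)⁻¹
      have hq : q ∈ d.Q := d.comm_RE hiE r.2
      have hyq : ((⟨q, hQR hq⟩ : ↥R₀) : ↥R₀ ⧸ Dr) = Additive.toMul y := by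
        have e : ((⟨q, hQR hq⟩ : ↥R₀) : ↥R₀ ⧸ Dr) = φ i' r * (r : ↥R₀ ⧸ Dr)⁻¹ := by
          rw [hφ, ← QuotientGroup.mk_inv, ← QuotientGroup.mk_mul]
          exact congrArg _ (Subtype.ext (by
            show q = ((MulAut.conjNormal i r : ↥R₀) : G) * (r : G)⁻¹
            rw [MulAut.conjNormal_apply]))
        rw [e, hr, show φ i' (Additive.toMul y) = (Additive.toMul y)⁻¹ from congrArg Additive.toMul hy]
        have h' := congrArg Additive.toMul (h3 y)
        rw [toMul_nsmul, toMul_zero, pow_succ, pow_two] at h'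
        rw [← mul_inv_rev, inv_eq_of_mul_eq_one_right h']
      show Additive.ofMul (φ c (Additive.toMul y)) = y
      rw [← hφc, ← hyq, (hφiff c' ⟨q, hQR hq⟩).mpr ?_, hyq]; · rfl
      have hid := (d.SY.op_eq_id_iff (d.nY hc'Q)).mp (d.key hc'C hc'Q hc'Z) q hq
      show (c' : G) * q * (c' : G)⁻¹ * q⁻¹ ∈ D
      rw [show (c' : G) * q * (c' : G)⁻¹ * q⁻¹ = q * (q⁻¹ * ((c' : G) * q * (c' : G)⁻¹)) * q⁻¹ by group]
      exact (Subgroup.mem_normalizer_iff.mp (hHD (hRH (hQR hq))) _).mp (hWD hid)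
  have hN1p : IsPGroup 3 ↥N1 := isPGroup_of_coprime_eq_one fun g hg ho => by
    obtain ⟨g', hg', rfl⟩ := hN1map.symm ▸ hg
    refine hkerφ g' (hN1C hg) ?_ ho
    obtain ⟨k, hk⟩ := hM ⟨φ g', himg.symm ▸ Subgroup.mem_map_of_mem φ hg'⟩
    rw [← orderOf_eq_one_iff]
    exact Nat.eq_one_of_dvd_coprimes (ho.pow_right k)
      ((orderOf_map_dvd φ g').trans (by rw [← Subgroup.orderOf_coe]; rfl))
      (orderOf_dvd_of_pow_eq_one (congrArg Subtype.val hk))
  -- `C` normalizes `Q`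
  have hP0 : Cfsg.pCoreOf 3 d.C ≤ Subgroup.normalizer (d.Q : Set G) := by
    have hn : ∀ {K : Subgroup G}, K ≤ Subgroup.normalizer (d.C : Set G) →
        K ≤ Subgroup.normalizer (Cfsg.pCoreOf 3 d.C : Set G) := fun hK g hg =>
      LocalEven.conjS_eq_self_iff.1 (by rw [LocalEven.conjS_pCoreOf, LocalEven.conjS_eq_self_iff.2 (hK hg)])
    have hPE := Baumann.le_normalizer_block d.T d.res d.EB (LocalEven.pCoreOf_isPGroup d.C)
      (hn (d.le_nC d.BQ d.BE)) (hn hnC)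
    rw [d.Qdef]
    exact fun g hg => LocalEven.conjS_eq_self_iff.1 (by
      rw [LocalEven.conjS_pCoreOf, LocalEven.conjS_eq_self_iff.2 (hPE hg)])
  have hN1n : d.C ≤ Subgroup.normalizer (N1 : Set G) := Subgroup.normalizer_commutator_ge_left _ _
  have hN1Q : N1 ≤ Subgroup.normalizer (d.Q : Set G) :=
    (LocalEven.le_pCoreOf hN1C hN1n hN1p).trans hP0
  have hCQ : d.C ≤ Subgroup.normalizer (d.Q : Set G) := fun c hc => by
    obtain ⟨n, hn, e⟩ := exists_fixed_mul hN1p hio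
      (Subgroup.normalizer_commutator_ge_right _ _ (Subgroup.mem_zpowers i)) (hN1n hc) (by
        rw [show i * c * i⁻¹ * c⁻¹ = ⁅c, i⁆⁻¹ by simp only [commutatorElement_def]; group]
        exact inv_mem (Subgroup.commutator_mem_commutator hc (Subgroup.mem_zpowers i)))
    have h1 := hQn (mul_mem (hCH hc) (hCH (hN1C hn))) e.symm
    rw [show c = c * n * n⁻¹ by group]
    exact mul_mem h1 (inv_mem (hN1Q hn))
  -- conclusion
  set K := d.C ⊓ Subgroup.centralizer (d.Z : Set G) ⊓ trivOn R₀ d.Q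
  have hKp : IsPGroup 3 ↥K := isPGroup_of_coprime_eq_one fun g hg ho => by
    have hgQ := hCQ hg.1.1
    have hgZ : ∀ z ∈ d.Z, g * z = z * g := fun z hz => (Subgroup.mem_centralizer_iff.mp hg.1.2 z hz).symm
    have hgW : g ∈ Subgroup.centralizer (d.W : Set G) :=
      Subgroup.mem_centralizer_iff.mpr fun w hw => (d.fixW hg.1.1 hgZ hw).symm
    have hWp : IsPGroup 3 ↥d.W := d.Qp.to_le d.WQ
    have hgQc : g ∈ Subgroup.centralizer (d.Q : Set G) := centralizes_of_stabilizes hWp ho (d.nW hgQ)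
      (fun q hq => d.nW (Subgroup.le_normalizer hq)) (fun q hq => by
        have := (d.SY.op_eq_id_iff (d.nY hgQ)).mp (d.key hg.1.1 hgQ hgZ) q hq
        rw [show g * q * g⁻¹ * q⁻¹ = q * (q⁻¹ * (g * q * g⁻¹)) * q⁻¹ by group]
        exact (Subgroup.mem_normalizer_iff.mp (d.nW (Subgroup.le_normalizer hq)) _).mp this) hgW
    exact eq_one_of_centralizes_core hG (centralizes_of_stabilizes d.Qp ho hgQ d.RQ hg.2.2 hgQc) ho
  have hnK : ∀ {L : Subgroup G}, L ≤ Subgroup.normalizer (d.Q : Set G) →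
      L ≤ Subgroup.normalizer (d.C : Set G) → L ≤ Subgroup.normalizer (K : Set G) := fun hQ hC =>
    inf_normalizer (inf_normalizer hC
      (fun g hg => FusionControl.normalizer_le_normalizer_centralizer d.Z (d.nZ (hQ hg))))
      (trivOn_normalizer (le_normalizer_core _) hQ)
  refine le_normalizer_of_commutator d.res hKp (Baumann.le_normalizer_block d.T d.res d.EB hKp
    (hnK d.BQ (d.le_nC d.BQ d.BE)) (hnK d.EQ hnC)) fun c hc e he => ⟨⟨?_, ?_⟩, ?_⟩
  · show c * e * c⁻¹ * e⁻¹ ∈ d.C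
    rw [show c * e * c⁻¹ * e⁻¹ = c * (e * c⁻¹ * e⁻¹) by group]
    exact mul_mem hc ((Subgroup.mem_normalizer_iff.mp (hnC he) _).mp (inv_mem hc))
  · show c * e * c⁻¹ * e⁻¹ ∈ Subgroup.centralizer (d.Z : Set G)
    have he' : e ∈ Subgroup.centralizer (d.Z : Set G) :=
      Subgroup.mem_centralizer_iff.mpr fun z hz => (d.Zcent z hz e he).symm
    exact mul_mem ((Subgroup.mem_normalizer_iff.mp
      (FusionControl.normalizer_le_normalizer_centralizer d.Z (d.nZ (hCQ hc))) e).mp he') (inv_mem he')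
  · show c * e * c⁻¹ * e⁻¹ ∈ trivOn R₀ d.Q
    have he' : e ∈ trivOn R₀ d.Q := ⟨d.EQ he, fun r hr => d.comm_RE he hr⟩
    exact mul_mem ((Subgroup.mem_normalizer_iff.mp
      (trivOn_normalizer (le_normalizer_core d.C) hCQ hc) e).mp he') (inv_mem he')

end Exc

end Cfsg.Agent.Lib.BlockExc
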