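import Cfsg.Agent.Lib.BlockExc.Action
import Cfsg.Agent.Lib.LocalEven2.SL2Irred
import Cfsg.Agent.Lib.Classical.LinearSimple

/-!
Operators induced on a natural two-dimensional section, and facts about `SL₂` in characteristic three.
-/

set_option autoImplicit false

namespace Cfsg.Agent.Lib.BlockExc

open Matrix
open scoped commutatorElement
open Cfsg.Agent.Lib.LocalEven2 (SL2Irred.mem_commutator_of_eq SL2Irred.exists_sq_ne_one)

variable {F : Type*} [Field F]

local notation "SL2" => Matrix.SpecialLinearGroup (Fin 2) F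
local notation "V2" => (Fin 2 → F)
local notation "M2" => Matrix (Fin 2) (Fin 2) F

/-- The determinant form. -/
def dt (x y : Fin 2 → F) : F := x 0 * y 1 - x 1 * y 0

theorem dt_mulVec (s : SL2) (x y : V2) : dt ((s : M2).mulVec x) ((s : M2).mulVec y) = dt x y := by
  have h : (s : M2) 0 0 * (s : M2) 1 1 - (s : M2) 0 1 * (s : M2) 1 0 = 1 := by
    rw [← Matrix.det_fin_two]; exact s.2
  simp only [dt, Matrix.mulVec, dotProduct, Fin.sum_univ_two]
  linear_combination (x 0 * y 1 - x 1 * y 0) * h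

/-- Additive maps preserving the determinant are special linear. -/
theorem exists_sl_of_dt {g : V2 →+ V2} (hs : Function.Surjective g) (hg : ∀ x y, dt (g x) (g y) = dt x y) :
    ∃ s : SL2, ∀ v, g v = (s : M2).mulVec v := by
  have hsm : ∀ (a : F) (x : V2), g (a • x) = a • g x := by
    intro a x
    have key : ∀ z, dt (g (a • x) - a • g x) z = 0 := by
      intro z
      obtain ⟨y, rfl⟩ := hs z
      have h1 := hg (a • x) y
      have h2 := hg x y
      simp only [dt, Pi.sub_apply, Pi.smul_apply, smul_eq_mul] at h1 h2 ⊢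
      linear_combination h1 - a * h2
    have h0 := key ![0, 1]
    have h1 := key ![1, 0]
    simp [dt, sub_eq_zero] at h0 h1
    funext i; fin_cases i <;> simp [h0, h1]
  let s : M2 := !![g ![1, 0] 0, g ![0, 1] 0; g ![1, 0] 1, g ![0, 1] 1]
  have hdet : s.det = 1 := by
    rw [Matrix.det_fin_two_of]
    have := hg ![1, 0] ![0, 1]
    simp [dt] at this
    linear_combination this
  refine ⟨⟨s, hdet⟩, fun v => ?_⟩
  have hv : v = v 0 • ![1, 0] + v 1 • ![0, 1] := by funext i; fin_cases i <;> simp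
  conv_lhs => rw [hv, map_add, hsm, hsm]
  show v 0 • g ![1, 0] + v 1 • g ![0, 1] = s.mulVec v
  funext i; fin_cases i <;> simp [s, Matrix.mulVec, dotProduct, Fin.sum_univ_two] <;> ring

theorem eq_one_or_neg_of_sq {s : SL2} (h2 : (2 : F) ≠ 0) (h : s * s = 1) :
    (s : M2) = 1 ∨ (s : M2) = -1 := by
  have h' : (s⁻¹ : SL2) = s := inv_eq_of_mul_eq_one_right h
  have he : Matrix.adjugate (s : M2) = (s : M2) := congrArg (fun x : SL2 => (x : M2)) h'
  rw [Matrix.adjugate_fin_two] at he
  have e00 := congrFun (congrFun he 0) 0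
  have e01 := congrFun (congrFun he 0) 1
  have e10 := congrFun (congrFun he 1) 0
  simp at e00 e01 e10
  have z01 : (s : M2) 0 1 = 0 := by
    refine (mul_eq_zero.mp (?_ : (2 : F) * _ = 0)).resolve_left h2
    linear_combination -e01
  have z10 : (s : M2) 1 0 = 0 := by
    refine (mul_eq_zero.mp (?_ : (2 : F) * _ = 0)).resolve_left h2
    linear_combination -e10
  have hd : (s : M2) 0 0 * (s : M2) 1 1 - (s : M2) 0 1 * (s : M2) 1 0 = 1 := by
    rw [← Matrix.det_fin_two]; exact s.2
  rw [z01, e00, zero_mul, sub_zero, mul_self_eq_one_iff] at hd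
  rcases hd with hd | hd
  · left; ext i j; fin_cases i <;> fin_cases j <;> simp [z01, z10, hd, e00]
  · right; ext i j; fin_cases i <;> fin_cases j <;> simp [z01, z10, hd, e00]

variable [CharP F 3]

theorem two_ne_zero' : (2 : F) ≠ 0 := by
  intro h
  have : ((2 : ℕ) : F) = 0 := by exact_mod_cast h
  rw [CharP.cast_eq_zero_iff F 3] at this
  norm_num at this

theorem three_eq : (3 : F) = 0 := by
  have := CharP.cast_eq_zero F 3
  exact_mod_cast this

variable (F) in
/-- The rotation of order four. -/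
def rot : Matrix.SpecialLinearGroup (Fin 2) F := ⟨!![0, -1; 1, 0], by rw [Matrix.det_fin_two_of]; ring⟩

theorem rot_mem : rot F ∈ commutator SL2 := by
  refine SL2Irred.mem_commutator_of_eq (a := ⟨!![1, 1; 0, 1], by rw [det_fin_two_of]; ring⟩)
    (b := ⟨!![1, 0; 1, 1], by rw [det_fin_two_of]; ring⟩) ?_
  apply Subtype.ext
  show !![1, 1; 0, 1] * !![1, 0; 1, 1] = (!![0, -1; 1, 0] : M2) * (!![1, 0; 1, 1] * !![1, 1; 0, 1])
  rw [Matrix.mul_fin_two, Matrix.mul_fin_two, Matrix.mul_fin_two]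
  have := three_eq (F := F)
  ext i j
  fin_cases i <;> fin_cases j <;> simp <;> linear_combination this

theorem rot_sq : ((rot F * rot F : SL2) : M2) = -1 := by
  show (!![0, -1; 1, 0] : M2) * !![0, -1; 1, 0] = -1
  rw [Matrix.mul_fin_two]
  ext i j; fin_cases i <;> fin_cases j <;> simp

/-- An upper unitriangular matrix. -/
def upper (t : F) : Matrix.SpecialLinearGroup (Fin 2) F := ⟨!![1, t; 0, 1], by rw [Matrix.det_fin_two_of]; ring⟩

omit [CharP F 3] in
theorem upper_mem [Fintype F] (h : 3 < Fintype.card F) (s : F) : upper s ∈ commutator SL2 := by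
  obtain ⟨t, ht0, ht2⟩ := SL2Irred.exists_sq_ne_one h
  let D : SL2 := ⟨!![t, 0; 0, t⁻¹], by rw [det_fin_two_of]; field_simp; ring⟩
  refine SL2Irred.mem_commutator_of_eq (a := D) (b := ⟨!![1, s / (t ^ 2 - 1); 0, 1], by rw [det_fin_two_of]; ring⟩) ?_
  apply Subtype.ext
  show !![t, 0; 0, t⁻¹] * !![1, s / (t ^ 2 - 1); 0, 1] =
    (!![1, s; 0, 1] : M2) * (!![1, s / (t ^ 2 - 1); 0, 1] * !![t, 0; 0, t⁻¹])
  rw [Matrix.mul_fin_two, Matrix.mul_fin_two, Matrix.mul_fin_two]
  have : t ^ 2 - 1 ≠ 0 := sub_ne_zero.mpr ht2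
  ext i j
  fin_cases i <;> fin_cases j <;> simp
  field_simp
  ring

theorem zmod3_aux : ∀ a b c d : ZMod 3, a * d - b * c = 1 →
    ((!![a, b; c, d] : Matrix (Fin 2) (Fin 2) (ZMod 3)) ^ 24 = 1 ∧
    ((!![a, b; c, d] : Matrix (Fin 2) (Fin 2) (ZMod 3)) ^ 3 = 1 →
      (!![a, b; c, d] * (!![0, -1; 1, 0] * !![a, b; c, d] * !![0, 1; -1, 0]) :
        Matrix (Fin 2) (Fin 2) (ZMod 3)) ^ 3 = 1 →
      (!![a, b; c, d] * (!![0, -1; 1, 0] * !![a, b; c, d] * !![0, 1; -1, 0]) ^ 2 :
        Matrix (Fin 2) (Fin 2) (ZMod 3)) ^ 3 = 1 →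
      (!![a, b; c, d] : Matrix (Fin 2) (Fin 2) (ZMod 3)) = 1)) := by
  decide +kernel

theorem eq_bot_of_no_neg [Fintype F] (S : Subgroup SL2)
    (hnorm : ∀ r ∈ commutator SL2, ∀ s ∈ S, r * s * r⁻¹ ∈ S) (hneg : ∀ s ∈ S, (s : M2) ≠ -1) :
    S = ⊥ := by
  classical
  haveI : Fact (Nat.Prime 2) := ⟨Nat.prime_two⟩
  haveI : Fact (Nat.Prime 3) := ⟨Nat.prime_three⟩
  have hodd : Odd (Nat.card S) := by
    rw [← Nat.not_even_iff_odd]
    intro hev
    obtain ⟨s, hs⟩ := exists_prime_orderOf_dvd_card' (G := S) 2 (even_iff_two_dvd.mp hev)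
    have hss : (s : SL2) * s = 1 := by
      have := pow_orderOf_eq_one s
      rw [hs, pow_two] at this
      exact congrArg Subtype.val this
    rcases eq_one_or_neg_of_sq two_ne_zero' hss with h | h
    · have : s = 1 := Subtype.ext (Subtype.ext h)
      rw [this, orderOf_one] at hs
      exact absurd hs (by norm_num)
    · exact hneg s s.2 h
  rw [Subgroup.eq_bot_iff_forall]
  intro s hs
  by_cases hcard : 3 < Fintype.card F
  · haveI := Classical.isSimpleGroup_PSL_fin (F := F) (n := 2) le_rfl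
      (fun _ => by rw [Nat.card_eq_fintype_card]; omega)
    set π := QuotientGroup.mk' (Subgroup.center SL2)
    have hπ : Function.Surjective π := QuotientGroup.mk'_surjective _
    have hu1 : ∀ g ∈ Subgroup.center SL2, (g : M2) 1 0 = 0 ∧ (g : M2) 0 0 = (g : M2) 1 1 ∧ (g : M2) 0 1 = 0 := by
      intro g hg
      have e : (!![1, 1; 0, 1] : M2) * (g : M2) = (g : M2) * !![1, 1; 0, 1] :=
        congrArg (fun x : SL2 => (x : M2)) (Subgroup.mem_center_iff.mp hg (upper 1))
      have f : (!![0, -1; 1, 0] : M2) * (g : M2) = (g : M2) * !![0, -1; 1, 0] :=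
        congrArg (fun x : SL2 => (x : M2)) (Subgroup.mem_center_iff.mp hg (rot F))
      have e00 := congrFun (congrFun e 0) 0
      have e01 := congrFun (congrFun e 0) 1
      have f00 := congrFun (congrFun f 0) 0
      simp [Matrix.mul_apply, Fin.sum_univ_two] at e00 e01 f00
      exact ⟨e00, by linear_combination -e01, by linear_combination -f00 - e00⟩
    have hR : (commutator SL2).map π = ⊤ := by
      rcases ((inferInstance : (commutator SL2).Normal).map π hπ).eq_bot_or_eq_top with h | h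
      · exfalso
        have := (hu1 _ ((QuotientGroup.eq_one_iff _).mp (Subgroup.mem_bot.mp
          (h ▸ ⟨_, upper_mem hcard 1, rfl⟩ : π (upper 1) ∈ (⊥ : Subgroup _))))).2.2
        simp [upper] at this
      · exact h
    haveI hSn : S.Normal := ⟨fun x hx g => by
      obtain ⟨r, hr, hrg⟩ : π g ∈ (commutator SL2).map π := hR ▸ Subgroup.mem_top _
      have hz : r⁻¹ * g ∈ Subgroup.center SL2 := (QuotientGroup.eq).mp hrg
      have := hnorm r hr x hx
      rw [show g * x * g⁻¹ = r * ((r⁻¹ * g) * x * (r⁻¹ * g)⁻¹) * r⁻¹ by group,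
        ← Subgroup.mem_center_iff.mp hz x, mul_inv_cancel_right]
      exact this⟩
    rcases (hSn.map π hπ).eq_bot_or_eq_top with h | h
    · have hc : s ∈ Subgroup.center SL2 :=
        (QuotientGroup.eq_one_iff _).mp (Subgroup.mem_bot.mp (h ▸ ⟨_, hs, rfl⟩ : π s ∈ (⊥ : Subgroup _)))
      obtain ⟨h10, h00, h01⟩ := hu1 s hc
      have hd : (s : M2) 0 0 * (s : M2) 1 1 - (s : M2) 0 1 * (s : M2) 1 0 = 1 := by
        rw [← Matrix.det_fin_two]; exact s.2
      rw [h01, zero_mul, sub_zero, ← h00, mul_self_eq_one_iff] at hd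
      rcases hd with hd | hd
      · apply Subtype.ext; ext i j; fin_cases i <;> fin_cases j <;> simp [h10, h01, hd, ← h00]
      · exact absurd (by ext i j; fin_cases i <;> fin_cases j <;> simp [h10, h01, hd, ← h00]) (hneg s hs)
    · exfalso
      have h1 : orderOf (π (rot F)) = 2 := by
        refine orderOf_eq_prime ?_ ?_
        · rw [pow_two, ← map_mul]
          refine (QuotientGroup.eq_one_iff _).mpr (Subgroup.mem_center_iff.mpr fun g => ?_)
          apply Subtype.ext
          show (g : M2) * ((rot F * rot F : SL2) : M2) = ((rot F * rot F : SL2) : M2) * (g : M2)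
          rw [rot_sq, mul_neg_one, neg_one_mul]
        · intro e
          have := (hu1 _ ((QuotientGroup.eq_one_iff _).mp e)).1
          simp [rot] at this
      have h2 : 2 ∣ Nat.card S := by
        refine Nat.dvd_trans (h1 ▸ orderOf_dvd_natCard _) ?_
        rw [← Subgroup.card_top (G := SL2 ⧸ Subgroup.center SL2), ← h]
        exact Subgroup.card_map_dvd S π
      exact (Nat.not_even_iff_odd.mpr hodd) (even_iff_two_dvd.mpr h2)
  · -- three elements
    have hc3 : Fintype.card F = 3 := by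
      obtain ⟨n, -, hn⟩ := FiniteField.card F 3
      have : (1 : ℕ) ≤ n := n.pos
      have : 3 ^ 1 ≤ 3 ^ (n : ℕ) := Nat.pow_le_pow_right (by norm_num) this
      omega
    let e : F ≃+* ZMod 3 := (ZMod.ringEquivOfPrime F Nat.prime_three hc3).symm
    let f : SL2 →* Matrix (Fin 2) (Fin 2) (ZMod 3) :=
      (e.toRingHom.mapMatrix.toMonoidHom).comp
        { toFun := fun g => (g : M2), map_one' := rfl, map_mul' := fun _ _ => rfl }
    have hf : ∀ g : SL2, f g = (g : M2).map e := fun g => rfl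
    have hfi : Function.Injective f := fun g h hgh =>
      Subtype.ext (Matrix.map_injective e.injective hgh)
    have hform : f s = !![e ((s : M2) 0 0), e ((s : M2) 0 1); e ((s : M2) 1 0), e ((s : M2) 1 1)] := by
      rw [hf]; ext i j; fin_cases i <;> fin_cases j <;> rfl
    have hdet : e ((s : M2) 0 0) * e ((s : M2) 1 1) - e ((s : M2) 0 1) * e ((s : M2) 1 0) = 1 := by
      rw [← map_mul, ← map_mul, ← map_sub, ← Matrix.det_fin_two, s.2, map_one]
    obtain ⟨h24, hmain⟩ := zmod3_aux _ _ _ _ hdet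
    have h3 : ∀ g ∈ S, f g ^ 3 = 1 := by
      intro g hg
      have hd : e ((g : M2) 0 0) * e ((g : M2) 1 1) - e ((g : M2) 0 1) * e ((g : M2) 1 0) = 1 := by
        rw [← map_mul, ← map_mul, ← map_sub, ← Matrix.det_fin_two, g.2, map_one]
      have hg24 : g ^ 24 = 1 := hfi (by
        rw [map_pow, map_one, hf, ← (zmod3_aux _ _ _ _ hd).1]
        congr 1; ext i j; fin_cases i <;> fin_cases j <;> rfl)
      have ho : Odd (orderOf g) :=
        hodd.of_dvd_nat (Subgroup.orderOf_coe (⟨g, hg⟩ : S) ▸ orderOf_dvd_natCard _)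
      have : orderOf g ∣ 3 :=
        (Nat.Coprime.pow_right 3 ((Nat.coprime_two_right).mpr ho)).dvd_of_dvd_mul_left
          (show orderOf g ∣ 2 ^ 3 * 3 from orderOf_dvd_of_pow_eq_one hg24)
      rw [← map_pow, orderOf_dvd_iff_pow_eq_one.mp this, map_one]
    have hrot : f (rot F) = !![0, -1; 1, 0] := by
      rw [hf]; ext i j; fin_cases i <;> fin_cases j <;> simp [rot]
    have hrot' : f (rot F)⁻¹ = !![0, 1; -1, 0] := by
      show (Matrix.adjugate (!![0, -1; 1, 0] : M2)).map e = _
      rw [Matrix.adjugate_fin_two_of]; ext i j; fin_cases i <;> fin_cases j <;> simp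
    have ht := hnorm _ rot_mem s hs
    apply hfi
    rw [map_one, hform]
    refine hmain (hform ▸ h3 s hs) ?_ ?_
    · have := h3 _ (mul_mem hs ht)
      rwa [map_mul, map_mul, map_mul, hrot, hrot', hform] at this
    · have := h3 _ (mul_mem hs (pow_mem ht 2))
      rwa [map_mul, map_pow, map_mul, map_mul, hrot, hrot', hform] at this

/-- A linear operator of `3`-power order on the plane is quadratic. -/
theorem quad_of_linear (β : V2 →ₗ[F] V2) {k : ℕ} (hk : β ^ 3 ^ k = 1) (v : V2) :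
    β (β v - v) - (β v - v) = 0 := by
  have h3 : (3 : Module.End F V2) = 0 := by
    have : (3 : Module.End F V2) = algebraMap F (Module.End F V2) 3 := (map_ofNat _ 3).symm
    rw [this, three_eq, map_zero]
  set n : Module.End F V2 := β - 1
  have hn : n ^ 3 ^ k = 0 := by rw [pow_three_sub_one h3, hk, sub_self]
  have hmem : v ∈ LinearMap.ker (n ^ 3 ^ k) := by rw [hn]; simp
  have := Module.End.ker_pow_le_ker_pow_finrank n (3 ^ k) hmem
  rw [Module.finrank_fin_fun, LinearMap.mem_ker, pow_two] at this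
  exact this

/-- An additive operator of `3`-power order commuting with a root group is quadratic. -/
theorem quad_of_root [Fintype F] (β : V2 →+ V2) {k : ℕ} (hk : ∀ v, β^[3 ^ k] v = v)
    (hc : ∀ (t : F) (v : V2), β ![v 0 + t * v 1, v 1] = ![β v 0 + t * β v 1, β v 1]) (v : V2) :
    β (β v - v) - (β v - v) = 0 := by
  have hR : ∀ (t : F) (v : V2), β ![t * v 1, 0] = ![t * β v 1, 0] := by
    intro t v
    have h := hc t v
    have e : (![v 0 + t * v 1, v 1] : V2) = v + ![t * v 1, 0] := by funext i; fin_cases i <;> simp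
    rw [e, map_add] at h
    calc β ![t * v 1, 0] = (β v + β ![t * v 1, 0]) - β v := by abel
      _ = _ := by rw [h]; funext i; fin_cases i <;> simp
  set μ := β ![0, 1] 1
  have hline : ∀ t : F, β ![t, 0] = ![t * μ, 0] := fun t => by simpa using hR t ![0, 1]
  have hit : ∀ n : ℕ, β^[n] ![1, 0] = ![μ ^ n, 0] := by
    intro n
    induction n with
    | zero => simp
    | succ n ih => rw [Function.iterate_succ', Function.comp_apply, ih, hline, pow_succ]
  have hμ : μ = 1 := by
    have h := congrFun ((hit (3 ^ k)).symm.trans (hk _)) 0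
    simp at h
    haveI : ExpChar F 3 := ExpChar.prime Nat.prime_three
    have h0 : (μ - 1) ^ 3 ^ k = 0 := by rw [sub_pow_expChar_pow, h, one_pow, sub_self]
    exact sub_eq_zero.mp (eq_zero_of_pow_eq_zero h0)
  have h1 : ∀ v : V2, β v 1 = v 1 := by
    intro v
    have := congrFun (hR 1 v) 0
    rw [one_mul, hline, hμ] at this
    simpa using this.symm
  have hw : β v - v = ![(β v - v) 0, 0] := by funext i; fin_cases i <;> simp [h1]
  rw [hw, hline, hμ, mul_one, sub_self]

variable {G : Type*} [Group G]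

/-- A section identified with the natural module. -/
structure Sec (F : Type*) [Field F] (U U₀ : Subgroup G) where
  /-- The identification. -/
  ψ : ↥U →* Multiplicative (Fin 2 → F)
  surj : Function.Surjective ψ
  ker : ∀ u : ↥U, ψ u = 1 ↔ (u : G) ∈ U₀

namespace Sec

variable {U U₀ : Subgroup G} (S : Sec F U U₀)

/-- The image of an element. -/
def im (u : G) (hu : u ∈ U) : Fin 2 → F := Multiplicative.toAdd (S.ψ ⟨u, hu⟩)

omit [CharP F 3] in
theorem im_eq_zero {u : G} (hu : u ∈ U) : S.im u hu = 0 ↔ u ∈ U₀ := by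
  rw [im, toAdd_eq_zero, S.ker]

omit [CharP F 3] in
theorem im_mul {u v : G} (hu : u ∈ U) (hv : v ∈ U) : S.im (u * v) (mul_mem hu hv) = S.im u hu + S.im v hv := by
  rw [im, im, im, ← toAdd_mul, ← map_mul]; rfl

omit [CharP F 3] in
theorem im_inv {u : G} (hu : u ∈ U) : S.im u⁻¹ (inv_mem hu) = -S.im u hu := by
  rw [im, im, ← toAdd_inv, ← map_inv]; rfl

omit [CharP F 3] in
theorem im_eq_iff {u v : G} (hu : u ∈ U) (hv : v ∈ U) : S.im u hu = S.im v hv ↔ u⁻¹ * v ∈ U₀ := by
  rw [← S.im_eq_zero (mul_mem (inv_mem hu) hv), S.im_mul (inv_mem hu) hv, S.im_inv, neg_add_eq_zero]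

/-- A representative. -/
noncomputable def lift (v : Fin 2 → F) : ↥U := Function.surjInv S.surj (Multiplicative.ofAdd v)

omit [CharP F 3] in
theorem im_lift (v : Fin 2 → F) : S.im (S.lift v) (S.lift v).2 = v := by
  rw [im, Subtype.coe_eta, lift, Function.surjInv_eq S.surj]; rfl

/-- The operator induced by `g`. -/
noncomputable def op (g : G) (v : Fin 2 → F) : Fin 2 → F :=
  @dite _ (g * (S.lift v : G) * g⁻¹ ∈ U) (_root_.Classical.propDecidable _) (fun h => S.im _ h) fun _ => 0

omit [CharP F 3] in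
theorem conj_mem {g : G} (hg : g ∈ Subgroup.normalizer (U : Set G)) {u : G} (hu : u ∈ U) :
    g * u * g⁻¹ ∈ U :=
  (Subgroup.mem_normalizer_iff.mp hg u).mp hu

variable (U U₀) in
/-- The elements acting on the section. -/
def nrm : Subgroup G := Subgroup.normalizer (U : Set G) ⊓ Subgroup.normalizer (U₀ : Set G)

omit [CharP F 3] in
theorem op_im {g : G} (hg : g ∈ nrm U U₀) {u : G} (hu : u ∈ U) :
    S.op g (S.im u hu) = S.im (g * u * g⁻¹) (conj_mem hg.1 hu) := by
  rw [op, dif_pos (conj_mem hg.1 (S.lift _).2)]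
  refine (S.im_eq_iff _ _).mpr ?_
  rw [show (g * (S.lift (S.im u hu) : G) * g⁻¹)⁻¹ * (g * u * g⁻¹) =
    g * ((S.lift (S.im u hu) : G)⁻¹ * u) * g⁻¹ by group]
  exact conj_mem hg.2 ((S.im_eq_iff _ hu).mp (S.im_lift _))

omit [CharP F 3] in
theorem exists_im (v : Fin 2 → F) : ∃ (u : G) (hu : u ∈ U), S.im u hu = v :=
  ⟨_, _, S.im_lift v⟩

omit [CharP F 3] in
theorem op_one (v : Fin 2 → F) : S.op 1 v = v := by
  obtain ⟨u, hu, rfl⟩ := S.exists_im v
  rw [S.op_im (one_mem _)]
  congr 1; group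

omit [CharP F 3] in
theorem op_mul {g h : G} (hg : g ∈ nrm U U₀) (hh : h ∈ nrm U U₀) (v : Fin 2 → F) :
    S.op (g * h) v = S.op g (S.op h v) := by
  obtain ⟨u, hu, rfl⟩ := S.exists_im v
  rw [S.op_im hh, S.op_im hg, S.op_im (mul_mem hg hh)]
  congr 1; group

omit [CharP F 3] in
theorem op_add {g : G} (hg : g ∈ nrm U U₀) (v w : Fin 2 → F) : S.op g (v + w) = S.op g v + S.op g w := by
  obtain ⟨u, hu, rfl⟩ := S.exists_im v
  obtain ⟨x, hx, rfl⟩ := S.exists_im w
  rw [← S.im_mul, S.op_im hg, S.op_im hg, S.op_im hg, ← S.im_mul]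
  congr 1; group

/-- The induced operator as an additive map. -/
noncomputable def opHom {g : G} (hg : g ∈ nrm U U₀) : (Fin 2 → F) →+ (Fin 2 → F) :=
  AddMonoidHom.mk' (S.op g) (S.op_add hg)

omit [CharP F 3] in
theorem op_surj {g : G} (hg : g ∈ nrm U U₀) : Function.Surjective (S.op g) := fun v =>
  ⟨S.op g⁻¹ v, by rw [← S.op_mul hg (inv_mem hg), mul_inv_cancel, S.op_one]⟩

omit [CharP F 3] in
theorem op_iterate {g : G} (hg : g ∈ nrm U U₀) (n : ℕ) (v : Fin 2 → F) : (S.op g)^[n] v = S.op (g ^ n) v := by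
  induction n with
  | zero => rw [pow_zero, S.op_one]; rfl
  | succ n ih => rw [Function.iterate_succ', Function.comp_apply, ih, pow_succ', S.op_mul hg (pow_mem hg n)]

omit [CharP F 3] in
theorem op_eq_id_iff {g : G} (hg : g ∈ nrm U U₀) :
    (∀ v, S.op g v = v) ↔ ∀ u ∈ U, u⁻¹ * (g * u * g⁻¹) ∈ U₀ := by
  constructor
  · intro h u hu
    exact (S.im_eq_iff hu _).mp ((h _).symm.trans (S.op_im hg hu))
  · intro h v
    obtain ⟨u, hu, rfl⟩ := S.exists_im v
    rw [S.op_im hg]
    exact ((S.im_eq_iff hu _).mpr (h u hu)).symm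

/-- A `3`-element acting on the plane has a nonzero fixed vector. -/
theorem exists_fixed {g : G} (hg : g ∈ nrm U U₀) {k : ℕ} (hk : g ^ 3 ^ k = 1) :
    ∃ v, v ≠ 0 ∧ S.op g v = v := by
  by_contra hc
  push Not at hc
  let b : AddMonoid.End (Fin 2 → F) := S.opHom hg
  have h3 : (3 : AddMonoid.End (Fin 2 → F)) = 0 := three_eq_zero fun x => by
    funext i; simp [three_eq]
  have hb : b ^ 3 ^ k = 1 := by
    refine AddMonoidHom.ext fun v => ?_
    show (⇑(b ^ 3 ^ k)) v = v
    rw [AddMonoid.End.coe_pow]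
    show (S.op g)^[3 ^ k] v = v
    rw [S.op_iterate hg, hk, S.op_one]
  have hinj : Function.Injective (⇑(b - 1)) := (injective_iff_map_eq_zero _).mpr fun v hv => by
    by_contra hv0
    exact hc v hv0 (sub_eq_zero.mp hv)
  have h0 : (b - 1) ^ 3 ^ k = 0 := by rw [pow_three_sub_one h3, hb, sub_self]
  have hi : Function.Injective (⇑(((b - 1) ^ 3 ^ k : AddMonoid.End (Fin 2 → F)))) := by
    rw [AddMonoid.End.coe_pow]; exact hinj.iterate _
  have h1 : (![1, 0] : Fin 2 → F) = 0 := hi (by rw [h0]; rfl)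
  have := congrFun h1 0
  simp at this

end Sec

end Cfsg.Agent.Lib.BlockExc
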